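import Mathlib
import Cfsg.Agent.SolvableStructure.MinimalNormal
import Cfsg.Agent.H527.RC.Defs

/-!
# S4191, COLB2: modules of prime order, of order 9 and of order 27

`excl`: a solvable group `Q` acts irreducibly on `X`, `|X|` prime, 9 or 27, `T` normal of odd order:
elements of 2-power order commute with `T` on `X`.
-/

set_option autoImplicit false

namespace Cfsg.Agent.H659.RC

open Cfsg.Agent.H527.RC

section Thirteen

variable {Q X : Type*} [Group Q] [AddCommGroup X] [DistribMulAction Q X]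

theorem smul_zs (g : Q) (n : ℤ) (v : X) : g • (n • v) = n • (g • v) :=
  (DistribSMul.toAddMonoidHom X g).map_zsmul n v

/-- the data: `M` of order 13 acting freely on the nonzero elements, which form two orbits `± M u` -/
structure Th (M : Subgroup Q) (X : Type*) [AddCommGroup X] [DistribMulAction Q X] : Prop where
  pow : ∀ m ∈ M, m ^ 13 = 1
  comm : ∀ m ∈ M, ∀ n ∈ M, m * n = n * m
  free : ∀ m ∈ M, ∀ u : X, u ≠ 0 → m • u = u → m = 1
  two : ∀ u w : X, u ≠ 0 → w ≠ 0 → ∃ m ∈ M, ∃ ε : ℤ, (ε = 1 ∨ ε = -1) ∧ w = ε • (m • u)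
  odd : ∀ u : X, u + u = 0 → u = 0

variable {M : Subgroup Q}

theorem Th.eq_one_of_pow {m : Q} (h : Th M X) (hm : m ∈ M) {k : ℕ} (hk : k.Coprime 13) (h1 : m ^ k = 1) : m = 1 := by
  have h2 : orderOf m ∣ Nat.gcd k 13 := Nat.dvd_gcd (orderOf_dvd_of_pow_eq_one h1) (orderOf_dvd_of_pow_eq_one (h.pow m hm))
  rw [hk] at h2
  exact orderOf_eq_one_iff.1 (Nat.dvd_one.1 h2)

/-- no element inverts `M` -/
theorem Th.no_inv (h : Th M X) (hX : ∃ u : X, u ≠ 0) {x w : Q} (hx : x ∈ M) (hx1 : x ≠ 1)
    (hw : ∀ m ∈ M, w * m * w⁻¹ = m⁻¹) : False := by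
  obtain ⟨u, hu⟩ := hX
  have hwm : ∀ m ∈ M, ∀ v : X, w • (m • v) = m⁻¹ • (w • v) := by
    intro m hm v
    rw [smul_smul, smul_smul, ← hw m hm, inv_mul_cancel_right]
  have hwu : w • u ≠ 0 := by
    intro h0
    exact hu (smul_eq_zero_iff_eq w |>.1 h0)
  obtain ⟨m, hm, ε, hε, hwe⟩ := h.two u (w • u) hu hwu
  set p := m ^ 7 with hp
  have hpM : p ∈ M := M.pow_mem hm 7
  have hpp : p * p = m := by
    rw [hp, ← pow_add]
    have : m ^ (7 + 7) = m ^ 13 * m := by rw [← pow_succ]
    rw [this, h.pow m hm, one_mul]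
  set u' := p • u with hu'
  have hu'0 : u' ≠ 0 := fun h0 => hu ((smul_eq_zero_iff_eq p).1 h0)
  have hwu' : w • u' = ε • u' := by
    rw [hu', hwm p hpM, hwe, smul_zs, smul_smul]
    congr 2
    rw [← hpp]; group
  have hεε : ε * ε = 1 := by rcases hε with rfl | rfl <;> norm_num
  -- eigenvectors
  have heig : ∀ v : X, w • v = ε • v → v = 0 ∨ v = u' ∨ v = -u' := by
    intro v hv
    by_cases hv0 : v = 0
    · exact Or.inl hv0
    right
    obtain ⟨n, hn, δ, hδ, rfl⟩ := h.two u' v hu'0 hv0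
    have h1 : n⁻¹ • u' = n • u' := by
      rw [smul_zs, hwm n hn, hwu', smul_zs] at hv
      clear_value u'
      rcases hδ with rfl | rfl <;> rcases hε with rfl | rfl <;>
        simpa only [one_smul, neg_smul, neg_neg, neg_inj] using hv
    have h2 : (n * n) • u' = u' := by
      rw [mul_smul, ← h1, smul_inv_smul]
    have h3 : n * n = 1 := h.free _ (M.mul_mem hn hn) u' hu'0 h2
    have h4 : n = 1 := h.eq_one_of_pow hn (k := 2) (by norm_num) (by rw [pow_two]; exact h3)
    rw [h4, one_smul]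
    rcases hδ with rfl | rfl
    · left; exact one_smul _ _
    · right; rw [neg_smul, one_smul]
  have hz : w • (x • u' + x⁻¹ • u') = ε • (x • u' + x⁻¹ • u') := by
    rw [smul_add, hwm x hx, hwm x⁻¹ (M.inv_mem hx), hwu', inv_inv, smul_zs, smul_zs, smul_add, add_comm]
  have hx2 : ∀ k : ℕ, k.Coprime 13 → x ^ k • u' ≠ u' := by
    intro k hk hxk
    exact hx1 (h.eq_one_of_pow hx hk (h.free _ (M.pow_mem hx k) u' hu'0 hxk))
  have hmul : x • (x • u' + x⁻¹ • u') = x ^ 2 • u' + u' := by
    rw [smul_add, smul_inv_smul, smul_smul, pow_two]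
  rcases heig _ hz with hc | hc | hc
  · rw [hc, smul_zero] at hmul
    have h1 : x ^ 2 • u' = -u' := eq_neg_of_add_eq_zero_left hmul.symm
    apply hx2 4 (by norm_num)
    have : x ^ 4 = x ^ 2 * x ^ 2 := by rw [← pow_add]
    rw [this, mul_smul, h1, smul_neg, h1, neg_neg]
  · rw [hc] at hmul
    have h1 : x ^ 2 • u' = x • u' - u' := by rw [hmul]; abel
    have h2 : x ^ 3 • u' = -u' := by
      have : x ^ 3 = x * x ^ 2 := by rw [← pow_succ']
      rw [this, mul_smul, h1, smul_sub, smul_smul, ← pow_two, h1]; abel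
    apply hx2 6 (by norm_num)
    have : x ^ 6 = x ^ 3 * x ^ 3 := by rw [← pow_add]
    rw [this, mul_smul, h2, smul_neg, h2, neg_neg]
  · rw [hc, smul_neg] at hmul
    have h1 : x ^ 2 • u' = -(x • u') - u' := by rw [hmul]; abel
    have h2 : x ^ 3 • u' = u' := by
      have : x ^ 3 = x * x ^ 2 := by rw [← pow_succ']
      rw [this, mul_smul, h1, smul_sub, smul_neg, smul_smul, ← pow_two, h1]; abel
    exact hx2 3 (by norm_num) h2

/-- the centraliser of `M` -/
theorem Th.cent (h : Th M X) (hX : ∃ u : X, u ≠ 0) (hf : ∀ g : Q, (∀ v : X, g • v = v) → g = 1) {t : Q}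
    (ht : ∀ m ∈ M, t * m = m * t) {k : ℕ} (hk : Odd k) (htk : t ^ k = 1) : t ∈ M := by
  obtain ⟨u, hu⟩ := hX
  have htu : t • u ≠ 0 := fun h0 => hu ((smul_eq_zero_iff_eq t).1 h0)
  obtain ⟨m, hm, ε, hε, hte⟩ := h.two u (t • u) hu htu
  set s := m⁻¹ * t with hs
  have hsm : ∀ n ∈ M, s * n = n * s := by
    intro n hn
    rw [hs, mul_assoc, ht n hn, ← mul_assoc, h.comm _ (M.inv_mem hm) n hn, mul_assoc]
  have hsu : s • u = ε • u := by
    rw [hs, mul_smul, hte, smul_zs, inv_smul_smul]
  have hall : ∀ v : X, s • v = ε • v := by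
    intro v
    by_cases hv : v = 0
    · rw [hv, smul_zero, smul_zero]
    obtain ⟨n, hn, δ, hδ, rfl⟩ := h.two u v hu hv
    rw [smul_zs, smul_smul, hsm n hn, mul_smul, hsu, smul_zs, smul_comm]
  have hts : t = m * s := by rw [hs, mul_inv_cancel_left]
  have hs2 : s = 1 := by
    rcases hε with rfl | rfl
    · exact hf s fun v => by rw [hall, one_smul]
    · exfalso
      have h1 : s ^ 2 = 1 := hf _ fun v => by
        rw [pow_two, mul_smul, hall v, neg_smul, one_smul, smul_neg, hall v, neg_smul, one_smul, neg_neg]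
      have h2 : t ^ k = m ^ k * s ^ k := by
        rw [hts, (show Commute m s from (hsm m hm).symm).mul_pow]
      have h3 : s ^ k = s := by
        obtain ⟨j, rfl⟩ := hk
        rw [pow_succ, pow_mul, h1, one_pow, one_mul]
      rw [htk, h3] at h2
      have h4 : s = (m ^ k)⁻¹ := eq_inv_of_mul_eq_one_right h2.symm
      have h5 : s ∈ M := by rw [h4]; exact M.inv_mem (M.pow_mem hm k)
      have h6 : s = 1 := h.eq_one_of_pow h5 (k := 2) (by norm_num) h1
      have h7 := hall u
      rw [h6, one_smul, neg_smul, one_smul] at h7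
      have h8 : u + u = 0 := by
        nth_rewrite 1 [h7]
        exact neg_add_cancel u
      exact hu (h.odd u h8)
  rw [hts, hs2, mul_one]
  exact hm

end Thirteen

section Faithful

variable {Q X : Type*} [Group Q] [Finite Q] [Group.IsSolvable Q] [AddCommGroup X] [Finite X] [DistribMulAction Q X]

/-- the fixed points of a subgroup -/
def fixSub (M : Subgroup Q) (X : Type*) [AddCommGroup X] [DistribMulAction Q X] : AddSubgroup X where
  carrier := {v | ∀ m ∈ M, m • v = v}
  add_mem' := fun {a b} ha hb m hm => by rw [smul_add, ha m hm, hb m hm]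
  zero_mem' := fun m _ => smul_zero m
  neg_mem' := fun {a} ha m hm => by rw [smul_neg, ha m hm]

omit [Finite Q] [Group.IsSolvable Q] [Finite X] in
theorem mem_fixSub {M : Subgroup Q} {v : X} : v ∈ fixSub M X ↔ ∀ m ∈ M, m • v = v := Iff.rfl

omit [Group.IsSolvable Q] in
set_option linter.unusedSectionVars false in
theorem card_fixSub {M : Subgroup Q} {p : ℕ} [Fact p.Prime] (hM : IsPGroup p M) :
    Nat.card X ≡ Nat.card (fixSub M X) [MOD p] := by
  have h1 := hM.card_modEq_card_fixedPoints X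
  have h2 : Nat.card (MulAction.fixedPoints M X) = Nat.card (fixSub M X) := by
    apply Nat.card_congr
    apply Equiv.subtypeEquivRight
    intro v
    rw [MulAction.mem_fixedPoints]
    exact ⟨fun h m hm => h ⟨m, hm⟩, fun h m => h m m.2⟩
  rwa [h2] at h1

omit [Finite Q] [Group.IsSolvable Q] [Finite X] [AddCommGroup X] [DistribMulAction Q X] [Group Q] in
theorem dec13 : ∀ c : ZMod 13, c ^ 4 = 1 → c = 1 ∨ c = 12 ∨ c ^ 2 = 12 := by decide

theorem excl_faithful (hf : ∀ g : Q, (∀ v : X, g • v = v) → g = 1)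
    (hX : Nat.card X = 9 ∨ Nat.card X = 27)
    (hirr : ∀ Y : AddSubgroup X, (∀ g : Q, ∀ y ∈ Y, g • y ∈ Y) → Y = ⊥ ∨ Y = ⊤)
    (T : Subgroup Q) [hTn : T.Normal] (hT : Odd (Nat.card T)) {y t : Q} {k : ℕ} (hy : y ^ 2 ^ k = 1) (ht : t ∈ T) :
    y * t = t * y := by
  classical
  by_cases hT1 : T = ⊥
  · rw [hT1, Subgroup.mem_bot] at ht
    rw [ht, mul_one, one_mul]
  -- a minimal normal subgroup in `T`
  obtain ⟨M, ⟨hMn, hM, hMT⟩, hmin⟩ := Set.Finite.exists_minimal
    (s := {M : Subgroup Q | M.Normal ∧ M ≠ ⊥ ∧ M ≤ T}) (Set.toFinite _) ⟨T, hTn, hT1, le_rfl⟩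
  have hmin' : ∀ K : Subgroup Q, K.Normal → K ≤ M → K = ⊥ ∨ K = M := by
    intro K hK hKM
    by_cases h : K = ⊥
    · exact Or.inl h
    · exact Or.inr (le_antisymm hKM (hmin ⟨hK, h, hKM.trans hMT⟩ hKM))
  have hcomm := Cfsg.Agent.SolvableStructure.MinimalNormal.comm_of_minimal_normal M hM hmin'
  obtain ⟨r, d, hr, hd, hcard, hpow⟩ :=
    Cfsg.Agent.SolvableStructure.MinimalNormal.exists_prime_of_minimal_normal M hM hmin'
  haveI : Fact r.Prime := ⟨hr⟩
  have hMP : IsPGroup r M := IsPGroup.of_card hcard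
  have hr2 : r ≠ 2 := by
    rintro rfl
    have h1 : 2 ∣ Nat.card T := (dvd_pow_self 2 hd.ne').trans (hcard ▸ Subgroup.card_dvd_of_le hMT)
    exact (Nat.not_even_iff_odd.2 hT) (even_iff_two_dvd.2 h1)
  have hX3 : 3 ∣ Nat.card X := by rcases hX with h | h <;> rw [h] <;> norm_num
  have hr3 : r ≠ 3 := by
    rintro rfl
    have h1 : 3 ∣ Nat.card (fixSub M X) := by
      have h2 := card_fixSub (X := X) hMP
      exact (Nat.modEq_zero_iff_dvd.1 (h2.symm.trans (Nat.modEq_zero_iff_dvd.2 hX3)))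
    rcases hirr (fixSub M X) (fun g v hv => by
      rw [mem_fixSub] at hv ⊢
      intro m hm
      have h2 := hv _ (hMn.conj_mem m hm g⁻¹)
      rw [inv_inv] at h2
      calc m • g • v = g • ((g⁻¹ * m * g) • v) := by simp only [smul_smul]; group
        _ = g • v := by rw [h2]) with h | h
    · rw [h, AddSubgroup.card_bot] at h1
      norm_num at h1
    · apply hM
      rw [eq_bot_iff]
      intro m hm
      rw [Subgroup.mem_bot]
      apply hf
      intro v
      have : v ∈ fixSub M X := by rw [h]; trivial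
      exact this m hm
  -- fixed points of the elements of `M`
  have hfix : ∀ x ∈ M, x ≠ 1 → Nat.card (fixSub (Subgroup.zpowers x) X) = 1 ∧ Nat.card X = 27 ∧ r = 13 := by
    intro x hx hx1
    have hP : IsPGroup r (Subgroup.zpowers x) := hMP.to_le (by rwa [Subgroup.zpowers_le])
    have h1 := card_fixSub (X := X) hP
    have h2 : Nat.card (fixSub (Subgroup.zpowers x) X) ∣ Nat.card X := AddSubgroup.card_addSubgroup_dvd_card _
    have h3 : Nat.card (fixSub (Subgroup.zpowers x) X) ≠ Nat.card X := by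
      intro h
      apply hx1
      apply hf
      intro v
      have h4 : fixSub (Subgroup.zpowers x) X = ⊤ := AddSubgroup.eq_top_of_card_eq _ h
      have h5 : v ∈ fixSub (Subgroup.zpowers x) X := by rw [h4]; trivial
      exact h5 x (Subgroup.mem_zpowers x)
    set c := Nat.card (fixSub (Subgroup.zpowers x) X) with hc
    have hc0 : 0 < c := Nat.card_pos
    have h5 : r ∣ Nat.card X - c := (Nat.modEq_iff_dvd' (Nat.le_of_dvd Nat.card_pos h2)).1 h1.symm
    have h6 : ∀ q : ℕ, r ∣ q → q ∈ ({2, 3, 8, 6, 24, 18} : Finset ℕ) → False := by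
      intro q hq hq2
      have hr23 : r ∣ 72 := hq.trans (by
        simp only [Finset.mem_insert, Finset.mem_singleton] at hq2
        rcases hq2 with rfl | rfl | rfl | rfl | rfl | rfl <;> norm_num)
      have : (72 : ℕ) = 2 ^ 3 * 3 ^ 2 := by norm_num
      rw [this] at hr23
      rcases (hr.dvd_mul).1 hr23 with h7 | h7
      · exact hr2 ((Nat.prime_dvd_prime_iff_eq hr Nat.prime_two).1 (hr.dvd_of_dvd_pow h7))
      · exact hr3 ((Nat.prime_dvd_prime_iff_eq hr Nat.prime_three).1 (hr.dvd_of_dvd_pow h7))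
    rcases hX with hX | hX
    · exfalso
      rw [hX] at h2 h3 h5
      have h7 : c ≤ 9 := Nat.le_of_dvd (by norm_num) h2
      clear_value c
      interval_cases c
      all_goals first
        | (exact absurd rfl h3)
        | (exact h6 _ h5 (by decide))
        | (exact absurd h2 (by norm_num))
    · rw [hX] at h2 h3 h5
      have h7 : c ≤ 27 := Nat.le_of_dvd (by norm_num) h2
      have h8 : c = 1 := by
        clear_value c
        have h9 : c = 1 ∨ c = 3 ∨ c = 9 ∨ c = 27 := by
          have h10 : c ∣ 3 ^ 3 := by norm_num; exact h2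
          obtain ⟨j, hj, rfl⟩ := (Nat.dvd_prime_pow Nat.prime_three).1 h10
          interval_cases j <;> norm_num
        rcases h9 with h | h | h | h
        · exact h
        · rw [h] at h5; exact (h6 _ h5 (by decide)).elim
        · rw [h] at h5; exact (h6 _ h5 (by decide)).elim
        · exact absurd h h3
      refine ⟨h8, hX, ?_⟩
      rw [h8] at h5
      have h9 : r ∣ 2 * 13 := h5
      rcases (hr.dvd_mul).1 h9 with h10 | h10
      · exact absurd ((Nat.prime_dvd_prime_iff_eq hr Nat.prime_two).1 h10) hr2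
      · exact (Nat.prime_dvd_prime_iff_eq hr (by norm_num)).1 h10
  obtain ⟨x, hxM, hx1⟩ : ∃ x ∈ M, x ≠ 1 := by
    by_contra hcon
    push Not at hcon
    exact hM (eq_bot_iff.2 fun m hm => Subgroup.mem_bot.2 (hcon m hm))
  obtain ⟨-, hX27, hr13⟩ := hfix x hxM hx1
  subst hr13
  have hfree : ∀ m ∈ M, ∀ u : X, u ≠ 0 → m • u = u → m = 1 := by
    intro m hm u hu hmu
    by_contra hm1
    obtain ⟨h1, -, -⟩ := hfix m hm hm1
    have h2 : fixSub (Subgroup.zpowers m) X = ⊥ := AddSubgroup.card_eq_one.1 h1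
    have h3 : u ∈ fixSub (Subgroup.zpowers m) X := by
      rintro g ⟨i, rfl⟩
      have h4 : m ∈ MulAction.stabilizer Q u := hmu
      exact (MulAction.stabilizer Q u).zpow_mem h4 i
    rw [h2, AddSubgroup.mem_bot] at h3
    exact hu h3
  have hoddX : ∀ u : X, u + u = 0 → u = 0 := by
    intro u hu
    have h1 : Nat.card X • u = 0 := card_nsmul_eq_zero'
    rw [hX27] at h1
    have h2 : (27 : ℕ) • u = 13 • (u + u) + u := by abel
    rw [h2, hu, smul_zero, zero_add] at h1
    exact h1
  have hnt : ∃ u : X, u ≠ 0 := by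
    by_contra hcon
    push Not at hcon
    have h1 : Nat.card X ≤ 1 := by
      haveI : Subsingleton X := ⟨fun a b => by rw [hcon a, hcon b]⟩
      exact Finite.card_le_one_iff_subsingleton.2 inferInstance
    omega
  have hM13 : Nat.card M = 13 := by
    obtain ⟨u, hu⟩ := hnt
    have h1 : Nat.card M ≤ Nat.card X := by
      refine Nat.card_le_card_of_injective (fun m : M => (m : Q) • u) fun m n hmn => ?_
      have h2 : ((n : Q)⁻¹ * (m : Q)) • u = u := by
        rw [mul_smul]
        exact (inv_smul_eq_iff.2 hmn)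
      have h3 := hfree _ (M.mul_mem (M.inv_mem n.2) m.2) u hu h2
      exact Subtype.ext (inv_mul_eq_one.1 h3).symm
    rw [hcard, hX27] at h1
    have h2 : d < 2 := by
      by_contra h3
      have : 13 ^ 2 ≤ 13 ^ d := Nat.pow_le_pow_right (by norm_num) (by omega)
      omega
    have h3 : d = 1 := by omega
    rw [hcard, h3, pow_one]
  have htwo : ∀ u w : X, u ≠ 0 → w ≠ 0 → ∃ m ∈ M, ∃ ε : ℤ, (ε = 1 ∨ ε = -1) ∧ w = ε • (m • u) := by
    intro u w hu hw
    let f : M × Bool → {v : X // v ≠ 0} := fun a =>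
      if a.2 then ⟨(a.1 : Q) • u, fun h0 => hu ((smul_eq_zero_iff_eq _).1 h0)⟩
      else ⟨-((a.1 : Q) • u), fun h0 => hu ((smul_eq_zero_iff_eq _).1 (neg_eq_zero.1 h0))⟩
    have hf1 : Function.Injective f := by
      have key : ∀ m n : M, (m : Q) • u = (n : Q) • u → m = n := by
        intro m n hmn
        have h2 : ((n : Q)⁻¹ * (m : Q)) • u = u := by
          rw [mul_smul]
          exact (inv_smul_eq_iff.2 hmn)
        have h3 := hfree _ (M.mul_mem (M.inv_mem n.2) m.2) u hu h2
        exact Subtype.ext (inv_mul_eq_one.1 h3).symm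
      have key2 : ∀ m n : M, (m : Q) • u ≠ -((n : Q) • u) := by
        intro m n hmn
        set z := (n : Q)⁻¹ * (m : Q) with hz
        have hzM : z ∈ M := M.mul_mem (M.inv_mem n.2) m.2
        have h2 : z • u = -u := by
          rw [hz, mul_smul, hmn, smul_neg, inv_smul_smul]
        have h3 : z ^ 2 = 1 := hfree _ (M.pow_mem hzM 2) u hu (by
          rw [pow_two, mul_smul, h2, smul_neg, h2, neg_neg])
        have h4 : z = 1 := by
          have h5 := hpow z hzM
          have h6 : z ^ 13 = (z ^ 2) ^ 6 * z := by rw [← pow_mul, ← pow_succ]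
          rw [h6, h3, one_pow, one_mul] at h5
          exact h5
        rw [h4, one_smul] at h2
        exact hu (hoddX u (by nth_rewrite 1 [h2]; exact neg_add_cancel u))
      rintro ⟨m, b⟩ ⟨n, c⟩ h
      rcases b with _ | _ <;> rcases c with _ | _
      · have h1 : -((m : Q) • u) = -((n : Q) • u) := congrArg Subtype.val h
        rw [key m n (neg_injective h1)]
      · have h1 : -((m : Q) • u) = (n : Q) • u := congrArg Subtype.val h
        exact absurd h1.symm (key2 n m)
      · have h1 : (m : Q) • u = -((n : Q) • u) := congrArg Subtype.val h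
        exact absurd h1 (key2 m n)
      · have h1 : (m : Q) • u = (n : Q) • u := congrArg Subtype.val h
        rw [key m n h1]
    have hc : Nat.card (M × Bool) = Nat.card {v : X // v ≠ 0} := by
      haveI := Fintype.ofFinite X
      rw [Nat.card_prod, hM13, Nat.card_eq_fintype_card (α := Bool), Fintype.card_bool, Nat.card_eq_fintype_card,
        Fintype.card_subtype_compl (fun v : X => v = 0), Fintype.card_subtype_eq, ← Nat.card_eq_fintype_card, hX27]
    obtain ⟨⟨m, b⟩, hb⟩ := ((Nat.bijective_iff_injective_and_card f).2 ⟨hf1, hc⟩).2 ⟨w, hw⟩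
    rcases b with _ | _
    · exact ⟨m, m.2, -1, Or.inr rfl, by rw [neg_smul, one_smul]; exact (congrArg Subtype.val hb).symm⟩
    · exact ⟨m, m.2, 1, Or.inl rfl, by rw [one_smul]; exact (congrArg Subtype.val hb).symm⟩
  have hTh : Th M X := ⟨hpow, hcomm, hfree, htwo, hoddX⟩
  -- `y` centralises `M`
  have hgen : ∀ m ∈ M, ∃ i : ℕ, x ^ i = m := by
    intro m hm
    have h1 : Subgroup.zpowers x = M := by
      apply Subgroup.eq_of_le_of_card_ge (by rwa [Subgroup.zpowers_le])
      have h2 : orderOf x = 13 := orderOf_eq_prime (hpow x hxM) hx1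
      rw [Nat.card_zpowers, h2, hM13]
    have h3 : m ∈ Subgroup.zpowers x := by rw [h1]; exact hm
    obtain ⟨i, hi⟩ := (mem_powers_iff_mem_zpowers.2 h3)
    exact ⟨i, hi⟩
  have hyM : ∀ m ∈ M, y * m = m * y := by
    obtain ⟨j, hj⟩ := hgen _ (hMn.conj_mem x hxM y)
    have hconj : ∀ i : ℕ, y ^ i * x * (y ^ i)⁻¹ = x ^ (j ^ i) := by
      intro i
      induction i with
      | zero => simp
      | succ i ih =>
        have : y ^ (i + 1) * x * (y ^ (i + 1))⁻¹ = y * (y ^ i * x * (y ^ i)⁻¹) * y⁻¹ := by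
          rw [pow_succ']; group
        rw [this, ih, ← conj_pow, ← hj, ← pow_mul, pow_succ']
    have hord : orderOf x = 13 := orderOf_eq_prime (hpow x hxM) hx1
    have hcast : ∀ a b : ℕ, ((a : ZMod 13) = (b : ZMod 13)) → x ^ a = x ^ b := by
      intro a b hab
      rw [pow_eq_pow_iff_modEq, hord]
      exact (ZMod.natCast_eq_natCast_iff a b 13).1 hab
    have h1 : ((j : ZMod 13)) ^ 2 ^ k = 1 := by
      have h2 := hconj (2 ^ k)
      rw [hy, one_mul, inv_one, mul_one] at h2
      have h3 : x ^ 1 = x ^ (j ^ 2 ^ k) := by rw [pow_one]; exact h2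
      rw [pow_eq_pow_iff_modEq, hord] at h3
      have h4 := (ZMod.natCast_eq_natCast_iff 1 (j ^ 2 ^ k) 13).2 h3
      push_cast at h4
      exact h4.symm
    haveI : Fact (Nat.Prime 13) := ⟨by norm_num⟩
    have h4 : ((j : ZMod 13)) ^ 4 = 1 := by
      have hj0 : (j : ZMod 13) ≠ 0 := by
        intro h0
        rw [h0, zero_pow (by positivity)] at h1
        exact zero_ne_one h1
      have h5 : ((j : ZMod 13)) ^ 12 = 1 := ZMod.pow_card_sub_one_eq_one hj0
      have h6 : orderOf (j : ZMod 13) ∣ 4 := by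
        have h7 := Nat.dvd_gcd (orderOf_dvd_of_pow_eq_one h1) (orderOf_dvd_of_pow_eq_one h5)
        refine h7.trans ?_
        have h8 : Nat.gcd (2 ^ k) 12 ∣ 4 * 3 := Nat.gcd_dvd_right _ _
        refine Nat.Coprime.dvd_of_dvd_mul_right ?_ h8
        exact Nat.Coprime.coprime_dvd_left (Nat.gcd_dvd_left _ _) (Nat.Coprime.pow_left k (by norm_num))
      exact orderOf_dvd_iff_pow_eq_one.1 h6
    have hinv : ∀ i : ℕ, ((j : ZMod 13)) ^ i = 12 → False := by
      intro i hi
      apply hTh.no_inv hnt hxM hx1 (w := y ^ i)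
      intro m hm
      obtain ⟨a, rfl⟩ := hgen m hm
      have h5 : y ^ i * x * (y ^ i)⁻¹ = x⁻¹ := by
        rw [hconj i]
        have h6 : x ^ (j ^ i) = x ^ 12 := hcast _ _ (by push_cast; rw [hi])
        rw [h6]
        exact eq_inv_of_mul_eq_one_left (by rw [← pow_succ]; exact hpow x hxM)
      rw [← conj_pow, h5, inv_pow]
    have hc : (j : ZMod 13) = 1 := by
      rcases dec13 _ h4 with h | h | h
      · exact h
      · exact (hinv 1 (by rw [pow_one]; exact h)).elim
      · exact (hinv 2 h).elim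
    have hyx : y * x = x * y := by
      have h5 : x ^ j = x ^ 1 := hcast _ _ (by rw [hc]; norm_num)
      rw [hj, pow_one] at h5
      calc y * x = y * x * y⁻¹ * y := by group
        _ = x * y := by rw [h5]
    intro m hm
    obtain ⟨a, rfl⟩ := hgen m hm
    exact (show Commute y x from hyx).pow_right a
  -- the commutator
  set e := y * t * y⁻¹ * t⁻¹ with he
  have heT : e ∈ T := T.mul_mem (hTn.conj_mem t ht y) (T.inv_mem ht)
  have hee : e ^ Nat.card T = 1 := by
    have h1 : (⟨e, heT⟩ : T) ^ Nat.card T = 1 := pow_card_eq_one'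
    exact congrArg Subtype.val h1
  have hcent : ∀ m ∈ M, e * m = m * e := by
    intro m hm
    have h1 : t⁻¹ * m * t ∈ M := by
      have := hMn.conj_mem m hm t⁻¹
      rwa [inv_inv] at this
    have h2 : y⁻¹ * (t⁻¹ * m * t) * y = t⁻¹ * m * t := by
      rw [mul_assoc, ← hyM _ h1, inv_mul_cancel_left]
    have h3 : t⁻¹ * m = (t⁻¹ * m * t) * t⁻¹ := by group
    calc e * m = y * t * y⁻¹ * (t⁻¹ * m) := by rw [he]; group
      _ = y * t * (y⁻¹ * (t⁻¹ * m * t) * y) * y⁻¹ * t⁻¹ := by rw [h3]; group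
      _ = y * t * (t⁻¹ * m * t) * y⁻¹ * t⁻¹ := by rw [h2]
      _ = y * m * t * y⁻¹ * t⁻¹ := by group
      _ = m * y * t * y⁻¹ * t⁻¹ := by rw [hyM m hm]
      _ = m * e := by rw [he]; group
  have heM : e ∈ M := hTh.cent hnt hf hcent hT hee
  have hye := hyM e heM
  have hpw : ∀ i : ℕ, y ^ i * t * (y ^ i)⁻¹ = e ^ i * t := by
    intro i
    induction i with
    | zero => simp
    | succ i ih =>
      have h1 : y ^ (i + 1) * t * (y ^ (i + 1))⁻¹ = y * (y ^ i * t * (y ^ i)⁻¹) * y⁻¹ := by
        rw [pow_succ']; group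
      have h2 : y * t * y⁻¹ = e * t := by rw [he]; group
      have h3 : y * e ^ i = e ^ i * y := (show Commute y e from hye).pow_right i
      rw [h1, ih]
      calc y * (e ^ i * t) * y⁻¹ = (y * e ^ i) * t * y⁻¹ := by group
        _ = e ^ i * (y * t * y⁻¹) := by rw [h3]; simp only [mul_assoc]
        _ = e ^ i * (e * t) := by rw [h2]
        _ = e ^ (i + 1) * t := by rw [pow_succ, mul_assoc (e ^ i) e t]
  have h1 := hpw (2 ^ k)
  rw [hy, one_mul, inv_one, mul_one] at h1
  have h2 : e ^ 2 ^ k = 1 := (mul_eq_right.1 h1.symm)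
  have h3 : e = 1 := hTh.eq_one_of_pow heM (k := 2 ^ k) (Nat.Coprime.pow_left k (by norm_num)) h2
  calc y * t = e * t * y := by rw [he]; group
    _ = t * y := by rw [h3, one_mul]

end Faithful

/-- **the exclusion lemma** -/
theorem excl {Q X : Type*} [Group Q] [Finite Q] [Group.IsSolvable Q] [AddCommGroup X] [Finite X]
    [DistribMulAction Q X] (hX : (Nat.card X).Prime ∨ Nat.card X = 9 ∨ Nat.card X = 27)
    (hirr : ∀ Y : AddSubgroup X, (∀ g : Q, ∀ y ∈ Y, g • y ∈ Y) → Y = ⊥ ∨ Y = ⊤)
    (T : Subgroup Q) [hTn : T.Normal] (hT : Odd (Nat.card T)) {y t : Q} (hy : ∃ k : ℕ, y ^ 2 ^ k = 1) (ht : t ∈ T)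
    (u : X) : (y * t) • u = (t * y) • u := by
  rcases hX with hX | hX
  · haveI : Fact (Nat.card X).Prime := ⟨hX⟩
    haveI : IsAddCyclic X := isAddCyclic_of_prime_card rfl
    obtain ⟨g, hg⟩ := IsAddCyclic.exists_generator (α := X)
    have h1 : ∀ v : X, ∃ n : ℤ, n • g = v := fun v => AddSubgroup.mem_zmultiples_iff.1 (hg v)
    obtain ⟨m, rfl⟩ := h1 u
    obtain ⟨a, ha⟩ := h1 (y • g)
    obtain ⟨b, hb⟩ := h1 (t • g)
    rw [smul_zs, smul_zs, mul_smul, mul_smul, ← ha, ← hb, smul_zs, smul_zs, ← ha, ← hb]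
    congr 1
    exact smul_comm _ _ _
  · let φ : Q →* Equiv.Perm X := MulAction.toPermHom Q X
    have hφ : ∀ (g : Q) (v : X), φ g v = g • v := fun g v => rfl
    letI : DistribMulAction φ.range X :=
      { smul := fun g v => (g : Equiv.Perm X) v
        one_smul := fun v => rfl
        mul_smul := fun g h v => rfl
        smul_zero := fun g => by
          obtain ⟨_, q, rfl⟩ := g
          exact smul_zero q
        smul_add := fun g v w => by
          obtain ⟨_, q, rfl⟩ := g
          exact smul_add q v w }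
    haveI : Group.IsSolvable φ.range := solvable_of_surjective φ.rangeRestrict_surjective
    haveI : (T.map φ.rangeRestrict).Normal := Subgroup.Normal.map hTn _ φ.rangeRestrict_surjective
    have hc : Odd (Nat.card (T.map φ.rangeRestrict)) := hT.of_dvd_nat (Subgroup.card_map_dvd _ _)
    obtain ⟨k, hk⟩ := hy
    have := excl_faithful (Q := φ.range) (X := X) (fun g hg => Subtype.ext (by ext v; exact hg v)) hX
      (fun Y hY => hirr Y fun g y hy => hY ⟨φ g, g, rfl⟩ y hy) (T.map φ.rangeRestrict) hc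
      (y := φ.rangeRestrict y) (t := φ.rangeRestrict t) (k := k) (by rw [← map_pow, hk, map_one]) ⟨t, ht, rfl⟩
    rw [← map_mul, ← map_mul] at this
    have h2 := congrArg (fun z : φ.range => (z : Equiv.Perm X) u) this
    exact h2

end Cfsg.Agent.H659.RC
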