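import Cfsg.Agent.H659.RC.Count
import Cfsg.Agent.H659.RC.Excl
import Cfsg.Agent.SolvableStructure.PrimitiveSolvable

/-!
# S4191, COLB2: `ColB 2 1 4`
-/

set_option autoImplicit false
set_option linter.unusedSectionVars false

namespace Cfsg.Agent.H659.RC

open scoped Pointwise commutatorElement
open MulAction Cfsg.Agent.H308.ClsSet Cfsg.Agent.H527.RC

universe u

/-! ### numbers -/

theorem num_choose (m : ℕ) (hm : 4 ≤ m) : 2 * (2 * m + 1).choose m ≤ 2 ^ (2 * m) := by
  induction m, hm using Nat.le_induction with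
  | base => decide
  | succ m hm ih =>
    have h1 : (2 * (m + 1) + 1).choose (m + 1) * ((m + 1) * (m + 2)) =
        (2 * m + 1).choose m * ((2 * m + 3) * (2 * m + 2)) := by
      have e1 := Nat.add_one_mul_choose_eq (2 * m + 2) m
      have e2 := Nat.add_one_mul_choose_eq (2 * m + 1) (m + 1)
      have e3 : (2 * m + 1).choose (m + 1) = (2 * m + 1).choose m := by
        apply Nat.choose_symm_of_eq_add; omega
      have e4 : (2 * m + 2).choose (m + 2) = (2 * m + 2).choose m := by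
        apply Nat.choose_symm_of_eq_add; omega
      -- (2m+3) C(2m+2, m) = C(2m+3, m+1) (m+1)
      have e5 : (2 * m + 3) * (2 * m + 2).choose m = (2 * m + 3).choose (m + 1) * (m + 1) := e1
      have e6 : (2 * m + 2) * (2 * m + 1).choose (m + 1) = (2 * m + 2).choose (m + 2) * (m + 2) := e2
      rw [e3, e4] at e6
      have e7 : 2 * (m + 1) + 1 = 2 * m + 3 := by ring
      rw [e7]
      calc (2 * m + 3).choose (m + 1) * ((m + 1) * (m + 2)) =
          ((2 * m + 3).choose (m + 1) * (m + 1)) * (m + 2) := by ring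
        _ = (2 * m + 3) * ((2 * m + 2).choose m * (m + 2)) := by rw [← e5]; ring
        _ = _ := by rw [← e6]; ring
    have h2 : (2 * (m + 1) + 1).choose (m + 1) ≤ 4 * (2 * m + 1).choose m := by
      have h3 : (2 * (m + 1) + 1).choose (m + 1) * ((m + 1) * (m + 2)) ≤
          (4 * (2 * m + 1).choose m) * ((m + 1) * (m + 2)) := by
        rw [h1]
        have : (2 * m + 3) * (2 * m + 2) ≤ 4 * ((m + 1) * (m + 2)) := by nlinarith
        calc _ ≤ (2 * m + 1).choose m * (4 * ((m + 1) * (m + 2))) := Nat.mul_le_mul_left _ this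
          _ = _ := by ring
      exact Nat.le_of_mul_le_mul_right h3 (by positivity)
    have h3 : 2 ^ (2 * (m + 1)) = 4 * 2 ^ (2 * m) := by rw [mul_add, pow_add]; ring
    rw [h3]
    omega

theorem num_two (m : ℕ) (hm : 2 ≤ m) :
    ((2 * m + 1) ^ 2 * (2 * m + 2)) * 2 ^ (2 * m ^ 2 + 3 * m + 1) +
      (2 * m + 1) ^ 2 * 2 ^ (2 * m ^ 2 + 2 * m + 1) < 2 ^ (4 * m ^ 2 + 4 * m) := by
  have h1 : 2 * m + 3 < 2 ^ (m + 1) := by
    induction m, hm using Nat.le_induction with
    | base => norm_num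
    | succ m hm ih => rw [pow_succ]; omega
  have h2 : (2 * m + 1) ^ 2 * (2 * m + 3) < 2 ^ (3 * m + 3) := by
    have : (2 : ℕ) ^ (3 * m + 3) = (2 ^ (m + 1)) ^ 2 * 2 ^ (m + 1) := by rw [← pow_mul, ← pow_add]; congr 1; ring
    rw [this]
    exact Nat.mul_lt_mul_of_le_of_lt (Nat.pow_le_pow_left (by omega) 2) h1 (by positivity)
  have h3 : (2 * m + 1) ^ 2 * (2 * m + 2) * 2 ^ m + (2 * m + 1) ^ 2 ≤ (2 * m + 1) ^ 2 * (2 * m + 3) * 2 ^ m := by
    have : 1 ≤ 2 ^ m := Nat.one_le_two_pow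
    nlinarith [Nat.mul_le_mul_left ((2 * m + 1) ^ 2) this]
  have h4 : (2 * m + 1) ^ 2 * (2 * m + 3) * 2 ^ m < 2 ^ (4 * m + 3) := by
    have : (2 : ℕ) ^ (4 * m + 3) = 2 ^ (3 * m + 3) * 2 ^ m := by rw [← pow_add]; congr 1; ring
    rw [this]
    exact Nat.mul_lt_mul_of_pos_right h2 (by positivity)
  have h5 : 4 * m + 3 + (2 * m ^ 2 + 2 * m + 1) ≤ 4 * m ^ 2 + 4 * m := by nlinarith
  calc ((2 * m + 1) ^ 2 * (2 * m + 2)) * 2 ^ (2 * m ^ 2 + 3 * m + 1) +
        (2 * m + 1) ^ 2 * 2 ^ (2 * m ^ 2 + 2 * m + 1)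
      = ((2 * m + 1) ^ 2 * (2 * m + 2) * 2 ^ m + (2 * m + 1) ^ 2) * 2 ^ (2 * m ^ 2 + 2 * m + 1) := by
        have : (2 : ℕ) ^ (2 * m ^ 2 + 3 * m + 1) = 2 ^ m * 2 ^ (2 * m ^ 2 + 2 * m + 1) := by
          rw [← pow_add]; congr 1; ring
        rw [this]; ring
    _ < 2 ^ (4 * m + 3) * 2 ^ (2 * m ^ 2 + 2 * m + 1) :=
        Nat.mul_lt_mul_of_pos_right (h3.trans_lt h4) (by positivity)
    _ = 2 ^ (4 * m + 3 + (2 * m ^ 2 + 2 * m + 1)) := (pow_add 2 _ _).symm
    _ ≤ _ := Nat.pow_le_pow_right (by norm_num) h5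

theorem num_a {m : ℕ} (hm : 25 ≤ m) : 9 * (m + 2) ^ 2 ≤ 2 ^ m := by
  induction m, hm using Nat.le_induction with
  | base => norm_num
  | succ m hm ih =>
    rw [pow_succ 2 m]
    nlinarith

theorem num_A {n : ℕ} (hn : 81 ≤ n) : n ^ 2 * 2 ^ (2 * n / 3) ≤ 2 ^ (n - 2) := by
  set m := n - 2 - 2 * n / 3 with hm
  have h1 : n - 2 = m + 2 * n / 3 := by omega
  rw [h1, pow_add]
  apply Nat.mul_le_mul_right
  have h2 : n ≤ 3 * (m + 2) := by omega
  calc n ^ 2 ≤ (3 * (m + 2)) ^ 2 := Nat.pow_le_pow_left h2 2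
    _ = 9 * (m + 2) ^ 2 := by ring
    _ ≤ 2 ^ m := num_a (by omega)

theorem num_log' {K : ℕ} (hK : 5 ≤ K) : 18 * (K + 1) ^ 2 + 18 ≤ 4 * 3 ^ K := by
  induction K, hK using Nat.le_induction with
  | base => norm_num
  | succ K hK ih =>
    rw [pow_succ 3 K]
    nlinarith

theorem num_small' {n : ℕ} (h1 : 81 ≤ n) (h2 : n < 243) : n ^ 5 < 2 ^ (n - 2 - 5 * n / 9) := by
  interval_cases n <;> norm_num

theorem num_B {n k : ℕ} (hn : 81 ≤ n) (hk : 3 ^ k ≤ n) : n ^ (k + 1) * 2 ^ (5 * n / 9) < 2 ^ (n - 2) := by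
  set m := n - 2 - 5 * n / 9 with hm
  have h1 : n - 2 = m + 5 * n / 9 := by omega
  rw [h1, pow_add 2 m]
  apply Nat.mul_lt_mul_of_pos_right _ (by positivity)
  by_cases h : n < 243
  · have h2 : k ≤ 4 := by
      by_contra h3
      have : 3 ^ 5 ≤ 3 ^ k := Nat.pow_le_pow_right (by norm_num) (by omega)
      omega
    exact (Nat.pow_le_pow_right (by omega) (by omega)).trans_lt (num_small' hn h)
  · set K := Nat.log 3 n with hK
    have hK1 : 3 ^ K ≤ n := Nat.pow_log_le_self 3 (by omega)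
    have hK2 : n < 3 ^ (K + 1) := Nat.lt_pow_succ_log_self (by norm_num) n
    have h5 : 5 ≤ K := by
      by_contra h3
      have : 3 ^ (K + 1) ≤ 3 ^ 5 := Nat.pow_le_pow_right (by norm_num) (by omega)
      omega
    have hkK : k ≤ K := Nat.le_log_of_pow_le (by norm_num) hk
    have h6 := num_log' h5
    calc n ^ (k + 1) ≤ n ^ (K + 1) := Nat.pow_le_pow_right (by omega) (by omega)
      _ < (3 ^ (K + 1)) ^ (K + 1) := Nat.pow_lt_pow_left hK2 (by omega)
      _ ≤ (4 ^ (K + 1)) ^ (K + 1) := Nat.pow_le_pow_left (Nat.pow_le_pow_left (by norm_num) _) _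
      _ = 2 ^ (2 * (K + 1) ^ 2) := by
          rw [show (4 : ℕ) = 2 ^ 2 by norm_num, ← pow_mul, ← pow_mul]; congr 1; ring
      _ ≤ 2 ^ m := Nat.pow_le_pow_right (by norm_num) (by omega)

/-! ### from few bad sets to four rigid sets -/

theorem four_sizes {Ω : Type*} [Finite Ω] (B : Set (Set Ω)) (hodd : Odd (Nat.card Ω)) (hn : 9 ≤ Nat.card Ω)
    (hB : B.ncard < 2 ^ (Nat.card Ω - 1)) (hcompl : ∀ Γ : Set Ω, Γᶜ ∈ B → Γ ∈ B) :
    ∃ Γ : Fin 4 → Set Ω, (∀ i, Γ i ∉ B) ∧ ∀ i j, (Γ i).ncard = (Γ j).ncard → i = j := by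
  classical
  have := Fintype.ofFinite Ω
  set n := Nat.card Ω with hn'
  have hn1 : Fintype.card Ω = n := Nat.card_eq_fintype_card.symm
  obtain ⟨m, hm⟩ := hodd
  have hch : ∀ k, n.choose k ≤ n.choose m := by
    intro k
    have := Nat.choose_le_middle k n
    have h2 : n / 2 = m := by omega
    rwa [h2] at this
  have hch2 : 2 * n.choose m ≤ 2 ^ (n - 1) := by
    have := num_choose m (by omega)
    rw [← hm] at this
    have h2 : n - 1 = 2 * m := by omega
    rwa [h2]
  set R : Finset (Finset Ω) := Finset.univ.filter fun Γ => (Γ : Set Ω) ∉ B with hR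
  have hRc : 2 ^ (n - 1) < R.card := by
    have h1 : (Finset.univ.filter fun Γ : Finset Ω => (Γ : Set Ω) ∈ B).card ≤ B.ncard := by
      rw [← Set.ncard_coe_finset]
      refine Set.ncard_le_ncard_of_injOn (fun Γ : Finset Ω => (Γ : Set Ω)) ?_ ?_ (Set.toFinite B)
      · intro Γ hΓ
        simpa using hΓ
      · intro a _ b _ h
        exact Finset.coe_injective h
    have h2 := Finset.card_filter_add_card_filter_not (s := (Finset.univ : Finset (Finset Ω)))
      (fun Γ : Finset Ω => (Γ : Set Ω) ∈ B)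
    rw [Finset.card_univ, Fintype.card_finset, hn1] at h2
    have h4 : (Finset.univ.filter fun Γ : Finset Ω => (Γ : Set Ω) ∈ B).card + R.card = 2 ^ n := h2
    have h3 : 2 ^ n = 2 ^ (n - 1) + 2 ^ (n - 1) := by
      rw [← two_mul, ← pow_succ']; congr 1; omega
    omega
  have hsize : ∀ k, (Finset.univ.filter fun Γ : Finset Ω => Γ.card = k).card = n.choose k := by
    intro k
    rw [← hn1, ← Fintype.card_finset_len, Fintype.card_subtype]
  obtain ⟨Γ₁, hΓ₁⟩ : R.Nonempty := Finset.card_pos.1 (lt_of_le_of_lt (Nat.zero_le _) hRc)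
  obtain ⟨Γ₂, hΓ₂, hΓ₂'⟩ : ∃ Γ₂ ∈ R, ¬ (Γ₂.card = Γ₁.card ∨ Γ₂.card = n - Γ₁.card) := by
    by_contra hcon
    push Not at hcon
    have h1 : R ⊆ (Finset.univ.filter fun Γ : Finset Ω => Γ.card = Γ₁.card) ∪
        (Finset.univ.filter fun Γ : Finset Ω => Γ.card = n - Γ₁.card) := by
      intro Γ hΓ
      rw [Finset.mem_union, Finset.mem_filter, Finset.mem_filter]
      rcases hcon Γ hΓ with h | h
      · exact Or.inl ⟨Finset.mem_univ _, h⟩
      · exact Or.inr ⟨Finset.mem_univ _, h⟩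
    have h2 := (Finset.card_le_card h1).trans (Finset.card_union_le _ _)
    rw [hsize, hsize] at h2
    have := hch Γ₁.card
    have := hch (n - Γ₁.card)
    omega
  rw [hR, Finset.mem_filter] at hΓ₁ hΓ₂
  have hc1 : Γ₁.card ≤ n := by rw [← hn1]; exact Finset.card_le_univ _
  have hc2 : Γ₂.card ≤ n := by rw [← hn1]; exact Finset.card_le_univ _
  have hcc : ∀ Γ : Finset Ω, ((Γ : Set Ω)ᶜ).ncard = n - Γ.card := by
    intro Γ
    rw [Set.ncard_compl, Set.ncard_coe_finset]
  refine ⟨![(Γ₁ : Set Ω), (Γ₁ : Set Ω)ᶜ, (Γ₂ : Set Ω), (Γ₂ : Set Ω)ᶜ], ?_, ?_⟩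
  · intro i
    fin_cases i
    · exact hΓ₁.2
    · exact fun h => hΓ₁.2 (hcompl _ h)
    · exact hΓ₂.2
    · exact fun h => hΓ₂.2 (hcompl _ h)
  · have hval : ∀ i : Fin 4, ((![(Γ₁ : Set Ω), (Γ₁ : Set Ω)ᶜ, (Γ₂ : Set Ω), (Γ₂ : Set Ω)ᶜ] : Fin 4 → Set Ω) i).ncard =
        (![Γ₁.card, n - Γ₁.card, Γ₂.card, n - Γ₂.card] : Fin 4 → ℕ) i := by
      intro i
      fin_cases i
      · exact Set.ncard_coe_finset _
      · exact hcc _
      · exact Set.ncard_coe_finset _
      · exact hcc _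
    rw [not_or] at hΓ₂'
    intro i j hij
    rw [hval, hval] at hij
    fin_cases i <;> fin_cases j <;> simp at hij ⊢ <;> omega

/-! ### the affine structure -/

section Structure

variable {H Δ : Type u} [Group H] [Finite H] [Group.IsSolvable H] [MulAction H Δ] [FaithfulSMul H Δ] [Finite Δ]
  [Nontrivial Δ]

/-- the regular normal subgroup is minimal -/
theorem min_of_prim [hp : IsPreprimitive H Δ] {N : Subgroup H} (R : Reg (Ω := Δ) N) (K : Subgroup H) (hK : K.Normal)
    (hKN : K ≤ N) : K = ⊥ ∨ K = N := by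
  by_cases h : K = ⊥
  · exact Or.inl h
  right
  refine le_antisymm hKN fun x hx => ?_
  haveI := Cfsg.Agent.SolvableStructure.PrimitiveSolvable.isPretransitive_of_normal hp K h
  obtain ⟨a, -⟩ := exists_pair_ne Δ
  obtain ⟨k, hk⟩ := exists_smul_eq K a (x • a)
  have h1 : (k : H) = x := R.inj (hKN k.2) hx hk
  rw [← h1]
  exact k.2

/-- the action by conjugation on the additive group `N` -/
@[reducible] def conjAct (N : Subgroup H) (hN : N.Normal) : DistribMulAction H (Additive N) where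
  smul g x := Additive.ofMul ⟨g * ((Additive.toMul x : N) : H) * g⁻¹, hN.conj_mem _ (Additive.toMul x).2 g⟩
  one_smul x := by
    apply Additive.toMul.injective
    apply Subtype.ext
    change (1 : H) * ((Additive.toMul x : N) : H) * (1 : H)⁻¹ = ((Additive.toMul x : N) : H)
    group
  mul_smul g h x := by
    apply Additive.toMul.injective
    apply Subtype.ext
    change (g * h) * ((Additive.toMul x : N) : H) * (g * h)⁻¹ = g * (h * ((Additive.toMul x : N) : H) * h⁻¹) * g⁻¹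
    group
  smul_zero g := by
    apply Additive.toMul.injective
    apply Subtype.ext
    change g * (1 : H) * g⁻¹ = 1
    group
  smul_add g x y := by
    apply Additive.toMul.injective
    apply Subtype.ext
    change g * (((Additive.toMul x : N) : H) * ((Additive.toMul y : N) : H)) * g⁻¹ =
      (g * ((Additive.toMul x : N) : H) * g⁻¹) * (g * ((Additive.toMul y : N) : H) * g⁻¹)
    group

/-- in prime degree, degree 9 and 27 the 2-elements act simply -/
theorem fh_of_small [hp : IsPreprimitive H Δ] {N : Subgroup H} (R : Reg (Ω := Δ) N) {L : Subgroup H} (hL : LP 2 L)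
    (hodd : Odd (Nat.card Δ)) (hn : (Nat.card Δ).Prime ∨ Nat.card Δ = 9 ∨ Nat.card Δ = 27) {y : H} (hy : PEl 2 y) :
    FH 1 (⁅L, Subgroup.zpowers y⁆ : Subgroup H) := by
  haveI := hL.normal
  haveI := R.normal
  have hoddL : Odd (Nat.card L) := by
    rw [← Nat.not_even_iff_odd, even_iff_two_dvd]
    exact hL.cop
  letI : CommGroup N := { (inferInstance : Group N) with mul_comm := fun a b => Subtype.ext (R.comm a a.2 b b.2) }
  letI := conjAct N R.normal
  have hcard : Nat.card (Additive N) = Nat.card Δ := R.card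
  obtain ⟨k, hk⟩ := hy
  have hall : ∀ z ∈ Subgroup.zpowers y, ∃ k : ℕ, z ^ 2 ^ k = 1 := by
    rintro _ ⟨i, rfl⟩
    refine ⟨k, ?_⟩
    change (y ^ i) ^ (2 ^ k) = 1
    rw [← zpow_natCast, ← zpow_mul, mul_comm, zpow_mul, zpow_natCast, hk, one_zpow]
  have key : ∀ t ∈ L, ∀ z ∈ Subgroup.zpowers y, t * z * t⁻¹ * z⁻¹ ∈ N := by
    intro t ht z hz
    have h1 := excl (Q := H) (X := Additive N) (by rw [hcard]; exact hn) (fun Y hY => ?_) L hoddL
      (y := z) (t := t) (hall z hz) ht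
    · -- the commutator centralises `N`
      have h2 : ∀ x ∈ N, (z * t) * x * (z * t)⁻¹ = (t * z) * x * (t * z)⁻¹ := by
        intro x hx
        have h3 := h1 (Additive.ofMul ⟨x, hx⟩)
        exact congrArg (fun w : Additive N => ((Additive.toMul w : N) : H)) h3
      have h3 : ∀ x ∈ N, (t * z * t⁻¹ * z⁻¹) * x = x * (t * z * t⁻¹ * z⁻¹) := by
        intro x hx
        have h4 : (z * t)⁻¹ * x * (z * t) ∈ N := by
          have := R.normal.conj_mem x hx (z * t)⁻¹
          rwa [inv_inv] at this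
        have h5 := h2 _ h4
        have h6 : (t * z) * ((z * t)⁻¹ * x * (z * t)) * (t * z)⁻¹ = x := by
          rw [← h5]; group
        calc (t * z * t⁻¹ * z⁻¹) * x = (t * z) * ((z * t)⁻¹ * x * (z * t)) * (t * z)⁻¹ * (t * z * t⁻¹ * z⁻¹) := by group
          _ = x * (t * z * t⁻¹ * z⁻¹) := by rw [h6]
      obtain ⟨a, -⟩ := exists_pair_ne Δ
      set g := t * z * t⁻¹ * z⁻¹ with hg
      obtain ⟨x, hx, hxa⟩ := R.trans a (g • a)
      have h4 : x⁻¹ * g = 1 := by
        refine eq_one_of_cent R (fun w hw => ?_) (a := a) ?_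
        · calc x⁻¹ * g * w = x⁻¹ * (g * w) := mul_assoc _ _ _
            _ = x⁻¹ * (w * g) := by rw [h3 w hw]
            _ = (x⁻¹ * w) * g := (mul_assoc _ _ _).symm
            _ = (w * x⁻¹) * g := by rw [R.comm _ (N.inv_mem hx) w hw]
            _ = w * (x⁻¹ * g) := mul_assoc _ _ _
        · rw [mul_smul, ← hxa, inv_smul_smul]
      rw [← inv_mul_eq_one.1 h4]
      exact hx
    · -- irreducibility
      let K : Subgroup H :=
        { carrier := {x | ∃ hx : x ∈ N, (Additive.ofMul ⟨x, hx⟩ : Additive N) ∈ Y}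
          mul_mem' := by
            rintro a b ⟨ha, ha'⟩ ⟨hb, hb'⟩
            exact ⟨N.mul_mem ha hb, Y.add_mem ha' hb'⟩
          one_mem' := ⟨N.one_mem, Y.zero_mem⟩
          inv_mem' := by
            rintro a ⟨ha, ha'⟩
            exact ⟨N.inv_mem ha, Y.neg_mem ha'⟩ }
      have hKn : K.Normal := ⟨by
        rintro x ⟨hx, hx'⟩ g
        exact ⟨R.normal.conj_mem x hx g, hY g _ hx'⟩⟩
      rcases min_of_prim R K hKn (fun x hx => hx.1) with h | h
      · left
        rw [eq_bot_iff]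
        intro v hv
        have h2 : ((Additive.toMul v : N) : H) ∈ K := ⟨(Additive.toMul v).2, hv⟩
        rw [h, Subgroup.mem_bot] at h2
        rw [AddSubgroup.mem_bot]
        exact Additive.toMul.injective (Subtype.ext h2)
      · right
        rw [eq_top_iff]
        intro v _
        have h2 : ((Additive.toMul v : N) : H) ∈ K := by rw [h]; exact (Additive.toMul v).2
        exact h2.2
  have hle : (⁅L, Subgroup.zpowers y⁆ : Subgroup H) ≤ N := by
    rw [Subgroup.commutator_le]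
    intro t ht z hz
    exact key t ht z hz
  refine ⟨⊤, inferInstance, ?_, ?_⟩
  · rw [Group.isNilpotent_top]
    refine ⟨⟨1, ?_⟩⟩
    rw [Subgroup.upperCentralSeries_one, eq_top_iff]
    intro a _
    rw [Subgroup.mem_center_iff]
    intro b
    exact Subtype.ext (R.comm _ (hle b.2) _ (hle a.2))
  · exact QuotientGroup.subsingleton_quotient_top

end Structure

/-- a 2-element preserving a set: an involution preserving it -/
theorem rig_of {H Δ : Type u} [Group H] [MulAction H Δ] {Γ : Set Δ}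
    (h : ∀ y : H, y ≠ 1 → y * y = 1 → y • Γ ≠ Γ) : Rig 2 H (fun δ => δ ∈ Γ) := by
  classical
  rintro y ⟨k, hk⟩ hy δ
  by_cases hy1 : y = 1
  · rw [hy1, one_smul]
  exfalso
  have hex : ∃ k, y ^ 2 ^ k = 1 := ⟨k, hk⟩
  have h1 := Nat.find_spec hex
  have h0 : Nat.find hex ≠ 0 := by
    intro h0
    rw [h0, pow_zero, pow_one] at h1
    exact hy1 h1
  obtain ⟨j, hj⟩ := Nat.exists_eq_succ_of_ne_zero h0
  have h2 : y ^ 2 ^ j ≠ 1 := Nat.find_min hex (by omega)
  rw [hj, Nat.succ_eq_add_one, pow_succ, pow_mul, pow_two] at h1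
  have hyΓ : y • Γ = Γ := by
    ext δ
    constructor
    · rintro ⟨γ, hγ, rfl⟩
      have : (y • γ ∈ Γ) = (γ ∈ Γ) := hy γ
      change y • γ ∈ Γ
      rw [this]
      exact hγ
    · intro hδ
      refine ⟨y⁻¹ • δ, ?_, smul_inv_smul y δ⟩
      have : (y • y⁻¹ • δ ∈ Γ) = (y⁻¹ • δ ∈ Γ) := hy (y⁻¹ • δ)
      rw [smul_inv_smul] at this
      rw [← this]
      exact hδ
  refine h (y ^ 2 ^ j) h2 h1 ?_
  have h3 : y ∈ stabilizer H Γ := hyΓ
  exact (stabilizer H Γ).pow_mem h3 _

/-- **COLB2** -/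
theorem colB_two : ColB.{u} 2 1 4 := by
  intro H Δ _ _ _ _ _ _ _ L hprim hL h2 hy
  classical
  haveI := hprim
  have hodd : Odd (Nat.card Δ) := by
    rw [← Nat.not_even_iff_odd, even_iff_two_dvd]
    exact h2
  obtain ⟨N, hN1, hN2, hN3⟩ := exists_normal (G := H) (Ω := Δ)
  have R : Reg (Ω := Δ) N := ⟨hN1, hN2, hN3⟩
  have hNne : N ≠ ⊥ := by
    intro h
    have h3 := R.card
    rw [h, Subgroup.card_bot] at h3
    have := Finite.one_lt_card (α := Δ)
    omega
  obtain ⟨s, a, hs, ha, hcard, hsx⟩ :=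
    Cfsg.Agent.SolvableStructure.MinimalNormal.exists_prime_of_minimal_normal N hNne (fun K hK hKN =>
      min_of_prim (hp := hprim) R K hK hKN)
  rw [R.card] at hcard
  obtain ⟨y, hy2, hyF⟩ := hy
  have hns : ¬ ((Nat.card Δ).Prime ∨ Nat.card Δ = 9 ∨ Nat.card Δ = 27) := fun h =>
    hyF (fh_of_small (hp := hprim) R hL hodd h hy2)
  rw [not_or, not_or] at hns
  have hs2 : s ≠ 2 := by
    rintro rfl
    apply h2
    rw [hcard]
    exact dvd_pow_self 2 ha.ne'
  have hs3 : 3 ≤ s := by have := hs.two_le; omega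
  have ha1 : a ≠ 1 := by
    rintro rfl
    rw [pow_one] at hcard
    exact hns.1 (by rw [hcard]; exact hs)
  have hq : ∀ p : ℕ, p.Prime → p ∣ Nat.card Δ → s ≤ p := by
    intro p hp hpd
    rw [hcard] at hpd
    rw [(Nat.prime_dvd_prime_iff_eq hp hs).1 (hp.dvd_of_dvd_pow hpd)]
  -- the number of fixed points of an involution
  have hfix : ∀ z : H, z ≠ 1 → z * z = 1 → ∃ j, j < a ∧ Nat.card (fixedBy Δ z) = s ^ j := by
    intro z hz1 hzz
    obtain ⟨δ, hδ⟩ := exists_fix R hodd hzz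
    have h3 : Nat.card (fixedBy Δ z) ∣ Nat.card Δ := by
      rw [card_fix_eq R hδ, ← R.card]
      exact Subgroup.card_dvd_of_le inf_le_left
    rw [hcard] at h3
    obtain ⟨j, hj, hj2⟩ := (Nat.dvd_prime_pow hs).1 h3
    refine ⟨j, lt_of_le_of_ne hj ?_, hj2⟩
    rintro rfl
    apply hz1
    have h4 : fixedBy Δ z = Set.univ := by
      rw [Set.eq_univ_iff_ncard, ← Nat.card_coe_set_eq, hj2, hcard]
    apply FaithfulSMul.eq_of_smul_eq_smul (α := Δ)
    intro b
    have : b ∈ fixedBy Δ z := by rw [h4]; trivial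
    rw [one_smul]
    exact this
  set n := Nat.card Δ with hn
  set B : Set (Set Δ) := {Γ | ∃ z : H, (z ≠ 1 ∧ z * z = 1) ∧ z • Γ = Γ} with hB
  -- the bad sets
  have hsplit : ∀ (e₁ e₂ c₁ c₂ : ℕ),
      (∀ z : H, z ≠ 1 → z * z = 1 → Nat.card (fixedBy Δ z) * s = n → Nat.card Δ + Nat.card (fixedBy Δ z) ≤ 2 * e₁ + 1) →
      (∀ z : H, z ≠ 1 → z * z = 1 → Nat.card (fixedBy Δ z) * s ≠ n → Nat.card Δ + Nat.card (fixedBy Δ z) ≤ 2 * e₂ + 1) →
      Nat.card {z : H // z ≠ 1 ∧ z * z = 1 ∧ Nat.card (fixedBy Δ z) * s = n} ≤ c₁ →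
      Nat.card {z : H // z ≠ 1 ∧ z * z = 1 ∧ Nat.card (fixedBy Δ z) * s ≠ n} ≤ c₂ →
      B.ncard ≤ c₁ * 2 ^ e₁ + c₂ * 2 ^ e₂ := by
    intro e₁ e₂ c₁ c₂ h3 h4 h5 h6
    have h7 : B ⊆ {Γ : Set Δ | ∃ z : H, (z ≠ 1 ∧ z * z = 1 ∧ Nat.card (fixedBy Δ z) * s = n) ∧ z • Γ = Γ} ∪
        {Γ : Set Δ | ∃ z : H, (z ≠ 1 ∧ z * z = 1 ∧ Nat.card (fixedBy Δ z) * s ≠ n) ∧ z • Γ = Γ} := by
      rintro Γ ⟨z, ⟨hz1, hz2⟩, hz3⟩
      by_cases h : Nat.card (fixedBy Δ z) * s = n
      · exact Or.inl ⟨z, ⟨hz1, hz2, h⟩, hz3⟩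
      · exact Or.inr ⟨z, ⟨hz1, hz2, h⟩, hz3⟩
    refine (Set.ncard_le_ncard h7 (Set.toFinite _)).trans ((Set.ncard_union_le _ _).trans (Nat.add_le_add ?_ ?_))
    · refine cnt _ _ _ (fun z hz => ?_) h5
      have := orb_eq (Ω := Δ) hz.1 hz.2.1
      have := h3 z hz.1 hz.2.1 hz.2.2
      omega
    · refine cnt _ _ _ (fun z hz => ?_) h6
      have := orb_eq (Ω := Δ) hz.1 hz.2.1
      have := h4 z hz.1 hz.2.1 hz.2.2
      omega
  have hc1 := card_class1 R hodd hs hq hsx
  rw [← hn] at hc1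
  have hbad : 9 ≤ n ∧ B.ncard < 2 ^ (n - 1) := by
    by_cases ha2 : a = 2
    · subst ha2
      have hs5 : 5 ≤ s := by
        by_contra h
        have : s = 3 := by
          have h3 : s ≠ 4 := by rintro rfl; norm_num at hs
          omega
        rw [this] at hcard
        exact hns.2.1 (by rw [hcard]; norm_num)
      obtain ⟨m, hm⟩ := hs.odd_of_ne_two hs2
      have hn2 : n = 4 * m ^ 2 + 4 * m + 1 := by rw [hcard, hm]; ring
      have hnum := num_two m (by omega)
      refine ⟨by nlinarith, lt_of_le_of_lt (hsplit (2 * m ^ 2 + 3 * m + 1) (2 * m ^ 2 + 2 * m + 1)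
        ((2 * m + 1) ^ 2 * (2 * m + 2)) ((2 * m + 1) ^ 2) ?_ ?_ ?_ ?_) (lt_of_lt_of_le hnum ?_)⟩
      · intro z hz1 hzz hz
        have h3 : Nat.card (fixedBy Δ z) = s := by
          rw [hcard, pow_two] at hz
          exact Nat.eq_of_mul_eq_mul_right hs.pos hz
        rw [h3, ← hn, hn2, hm]
        omega
      · intro z hz1 hzz hz
        obtain ⟨j, hj, hj2⟩ := hfix z hz1 hzz
        have h3 : j = 0 := by
          by_contra h0
          have : j = 1 := by omega
          rw [this, pow_one] at hj2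
          apply hz
          rw [hj2, hcard]; ring
        rw [hj2, h3, pow_zero, ← hn, hn2]
        omega
      · have h3 : (n - 1) * n = ((2 * m + 1) ^ 2 * (2 * m + 2)) * (s - 1) := by
          have h4 : n - 1 = (2 * m) * (2 * m + 2) := by
            rw [hn2]; ring_nf; omega
          have h5 : s - 1 = 2 * m := by omega
          rw [h4, h5, hcard, hm]; ring
        rw [h3] at hc1
        exact Nat.le_of_mul_le_mul_right hc1 (by omega)
      · have h3 : n = (2 * m + 1) ^ 2 := by rw [hcard, hm]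
        rw [← h3]
        have h4 := card_class2 (G := H) R hodd
        refine le_trans ?_ h4
        refine Nat.card_le_card_of_injective (fun z => ⟨z.1, z.2.1, z.2.2.1, ?_⟩) ?_
        · obtain ⟨z, hz1, hzz, hz⟩ := z
          obtain ⟨j, hj, hj2⟩ := hfix z hz1 hzz
          have h3 : j = 0 := by
            by_contra h0
            have : j = 1 := by omega
            rw [this, pow_one] at hj2
            apply hz
            rw [hj2, hcard]; ring
          rw [hj2, h3, pow_zero]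
        · intro z z' h
          exact Subtype.ext (congrArg (fun w : {y : H // y ≠ 1 ∧ y * y = 1 ∧ Nat.card (fixedBy Δ y) = 1} => (w : H)) h)
      · exact Nat.pow_le_pow_right (by norm_num) (by omega)
    · have h81 : 81 ≤ n := by
        have h3 : 3 ≤ a := by omega
        by_cases hs3' : s = 3
        · have h4 : a ≠ 3 := by
            rintro rfl
            rw [hs3'] at hcard
            exact hns.2.2 (by rw [hcard]; norm_num)
          rw [hcard, hs3']
          calc 81 = 3 ^ 4 := by norm_num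
            _ ≤ 3 ^ a := Nat.pow_le_pow_right (by norm_num) (by omega)
        · rw [hcard]
          have h5 : 5 ≤ s := by
            have h3 : s ≠ 4 := by rintro rfl; norm_num at hs
            omega
          calc 81 ≤ 5 ^ 3 := by norm_num
            _ ≤ s ^ 3 := Nat.pow_le_pow_left h5 3
            _ ≤ s ^ a := Nat.pow_le_pow_right (by omega) h3
      refine ⟨by omega, ?_⟩
      obtain ⟨k, hk1, hk2⟩ := card_G_le (G := H) R 3 (fun p hp hpd => hs3.trans (hq p hp hpd))
      have h3 : 2 ^ (n - 1) = 2 ^ (n - 2) + 2 ^ (n - 2) := by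
        rw [← two_mul, ← pow_succ']; congr 1; omega
      rw [h3]
      refine lt_of_le_of_lt (hsplit (2 * n / 3) (5 * n / 9) (n ^ 2) (n ^ (k + 1)) ?_ ?_ ?_ ?_)
        (Nat.add_lt_add_of_le_of_lt (num_A h81) (num_B h81 hk1))
      · intro z hz1 hzz hz
        have h4 : 3 * Nat.card (fixedBy Δ z) ≤ n := by
          rw [← hz, mul_comm]
          exact Nat.mul_le_mul_left _ hs3
        omega
      · intro z hz1 hzz hz
        obtain ⟨j, hj, hj2⟩ := hfix z hz1 hzz
        have h4 : j + 2 ≤ a := by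
          by_contra h0
          have h5 : a = j + 1 := by omega
          apply hz
          rw [hj2, hcard, h5, pow_succ]
        have h5 : 9 * Nat.card (fixedBy Δ z) ≤ n := by
          rw [hj2, hcard]
          calc 9 * s ^ j = 3 ^ 2 * s ^ j := by norm_num
            _ ≤ s ^ 2 * s ^ j := Nat.mul_le_mul_right _ (Nat.pow_le_pow_left hs3 2)
            _ = s ^ (j + 2) := by ring
            _ ≤ s ^ a := Nat.pow_le_pow_right (by omega) h4
        omega
      · have h4 : (n - 1) * n ≤ n ^ 2 := by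
          rw [pow_two]
          exact Nat.mul_le_mul_right _ (by omega)
        refine le_trans ?_ (hc1.trans h4)
        exact Nat.le_mul_of_pos_right _ (by omega)
      · refine le_trans ?_ hk2
        have := Fintype.ofFinite H
        rw [Nat.card_eq_fintype_card, Nat.card_eq_fintype_card]
        exact Fintype.card_subtype_le _
  obtain ⟨Γ, hΓ, hΓ2⟩ := four_sizes B hodd hbad.1 hbad.2 (by
    rintro Γ ⟨z, hz, hzΓ⟩
    refine ⟨z, hz, ?_⟩
    rw [Set.smul_set_compl] at hzΓ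
    exact compl_injective hzΓ)
  refine ⟨Γ, fun i => rig_of fun z hz1 hzz hz => hΓ i ⟨z, ⟨hz1, hzz⟩, hz⟩, hΓ2⟩

end Cfsg.Agent.H659.RC
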