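import Cfsg.Agent.H308.ClsSet

/-!
# S4191, COLB2: counting the sets preserved by an involution of a primitive solvable group of odd degree
-/

set_option autoImplicit false
set_option linter.unusedSectionVars false

namespace Cfsg.Agent.H659.RC

open scoped Pointwise
open MulAction Cfsg.Agent.H308.ClsSet

/-- generation over a subgroup -/
theorem exists_gen_over {N : Type*} [Group N] [Finite N] (D : Subgroup N) (q : ℕ)
    (hq : ∀ p : ℕ, p.Prime → p ∣ Nat.card N → q ≤ p) :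
    ∃ S : Finset N, D ⊔ Subgroup.closure (S : Set N) = ⊤ ∧ q ^ S.card * Nat.card D ≤ Nat.card N := by
  classical
  have := Fintype.ofFinite N
  obtain ⟨S, hS, hmax⟩ := Finset.exists_max_image
    ((Finset.univ : Finset (Finset N)).filter
      fun S : Finset N => q ^ S.card * Nat.card D ≤ Nat.card (D ⊔ Subgroup.closure (S : Set N) : Subgroup N))
    (fun S : Finset N => Nat.card (D ⊔ Subgroup.closure (S : Set N) : Subgroup N))
    ⟨∅, by simp⟩
  rw [Finset.mem_filter] at hS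
  refine ⟨S, ?_, hS.2.trans ?_⟩
  · by_contra hne
    obtain ⟨x, hx⟩ : ∃ x, x ∉ D ⊔ Subgroup.closure (S : Set N) := by
      by_contra h
      push Not at h
      exact hne (Subgroup.eq_top_iff' _ |>.2 h)
    have hxS : x ∉ S := fun h => hx (le_sup_right (a := D) (Subgroup.subset_closure h))
    have hlt : D ⊔ Subgroup.closure (S : Set N) < D ⊔ Subgroup.closure ((insert x S : Finset N) : Set N) := by
      refine lt_of_le_of_ne (sup_le_sup_left (Subgroup.closure_mono (by simp)) _) fun h => hx ?_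
      rw [h]
      exact le_sup_right (a := D) (Subgroup.subset_closure (by simp))
    set H := D ⊔ Subgroup.closure (S : Set N) with hH
    set K := D ⊔ Subgroup.closure ((insert x S : Finset N) : Set N) with hK
    have h1 : Nat.card H * H.relIndex K = Nat.card K := by
      rw [← Nat.card_congr (Subgroup.subgroupOfEquivOfLe hlt.le).toEquiv]
      exact (H.subgroupOf K).card_mul_index
    have h2 : H.relIndex K ≠ 1 := fun h => hlt.not_ge (Subgroup.relIndex_eq_one.1 h)
    have h3 : q ≤ H.relIndex K := by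
      have h4 := Nat.minFac_prime h2
      have h5 : (H.relIndex K).minFac ∣ Nat.card N :=
        (Nat.minFac_dvd _).trans ((Dvd.intro_left _ h1).trans K.card_subgroup_dvd_card)
      have h0 : 0 < H.relIndex K := Nat.pos_of_ne_zero (fun h0 => by
        rw [h0, mul_zero] at h1
        exact Nat.card_pos.ne h1)
      exact (hq _ h4 h5).trans (Nat.minFac_le h0)
    have h6 : q ^ (insert x S).card * Nat.card D ≤ Nat.card K := by
      rw [Finset.card_insert_of_notMem hxS, pow_succ, ← h1]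
      calc q ^ S.card * q * Nat.card D = q ^ S.card * Nat.card D * q := by ring
        _ ≤ _ := Nat.mul_le_mul hS.2 h3
    have h7 := hmax (insert x S) (by rw [Finset.mem_filter]; exact ⟨Finset.mem_univ _, h6⟩)
    have h8 : Nat.card K ≤ Nat.card H := h7
    exact hlt.ne (Subgroup.eq_of_le_of_card_ge hlt.le h8)
  · exact Subgroup.card_le_card_group _

/-- sets preserved by some element of a class -/
theorem cnt {G Ω : Type*} [Group G] [Finite G] [MulAction G Ω] [Finite Ω] (P : G → Prop) (e c : ℕ)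
    (h : ∀ y, P y → Nat.card (orbitRel.Quotient (Subgroup.zpowers y) Ω) ≤ e) (hc : Nat.card {y // P y} ≤ c) :
    {Γ : Set Ω | ∃ y, P y ∧ y • Γ = Γ}.ncard ≤ c * 2 ^ e := by
  classical
  have := Fintype.ofFinite Ω
  have := Fintype.ofFinite G
  rw [← Nat.card_coe_set_eq]
  have hch : ∀ Γ : {Γ : Set Ω | ∃ y, P y ∧ y • Γ = Γ}, ∃ y, P y ∧ y • (Γ : Set Ω) = Γ := fun Γ => Γ.2
  choose f hf1 hf2 using hch
  have h2 : Nat.card {Γ : Set Ω | ∃ y, P y ∧ y • Γ = Γ} ≤
      Nat.card (Σ g : {g : G // P g}, {Γ : Set Ω // (g : G) • Γ = Γ}) := by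
    refine Nat.card_le_card_of_injective
      (fun Γ => (⟨⟨f Γ, hf1 Γ⟩, ⟨Γ, hf2 Γ⟩⟩ : Σ g : {g : G // P g}, {Γ : Set Ω // (g : G) • Γ = Γ})) ?_
    intro Γ Γ' h
    have h3 := congrArg (fun x : (Σ g : {g : G // P g}, {Γ : Set Ω // (g : G) • Γ = Γ}) => (x.2 : Set Ω)) h
    exact Subtype.ext h3
  refine h2.trans ?_
  rw [Nat.card_sigma]
  refine (Finset.sum_le_card_nsmul _ _ (2 ^ e) fun g _ => ?_).trans ?_
  · exact (card_stab_le (g : G)).trans (Nat.pow_le_pow_right (by norm_num) (h _ g.2))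
  · rw [smul_eq_mul]
    refine Nat.mul_le_mul_right _ ?_
    rw [Finset.card_univ, ← Nat.card_eq_fintype_card]
    exact hc

/-- the number of orbits of an involution -/
theorem orb_eq {G Ω : Type*} [Group G] [Finite G] [MulAction G Ω] [Finite Ω] {y : G} (hy1 : y ≠ 1) (hy : y * y = 1) :
    2 * Nat.card (orbitRel.Quotient (Subgroup.zpowers y) Ω) = Nat.card Ω + Nat.card (fixedBy Ω y) := by
  classical
  have := Fintype.ofFinite Ω
  have := Fintype.ofFinite G
  have h1 := sum_card_fixedBy_eq_card_orbits_mul_card_group (Subgroup.zpowers y) Ω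
  have ho : orderOf y = 2 := orderOf_eq_prime (by rw [pow_two]; exact hy) hy1
  have hpc : Fintype.card (Subgroup.zpowers y) = 2 := by
    rw [← Nat.card_eq_fintype_card, Nat.card_zpowers, ho]
  have hkc : Fintype.card (orbitRel.Quotient (Subgroup.zpowers y) Ω) =
      Nat.card (orbitRel.Quotient (Subgroup.zpowers y) Ω) := Nat.card_eq_fintype_card.symm
  rw [hpc, hkc] at h1
  set z : Subgroup.zpowers y := ⟨y, Subgroup.mem_zpowers y⟩ with hz
  have hz1 : (1 : Subgroup.zpowers y) ≠ z := fun h => hy1 (congrArg Subtype.val h).symm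
  have huniv : (Finset.univ : Finset (Subgroup.zpowers y)) = {1, z} := by
    symm
    apply Finset.eq_univ_of_card
    rw [Finset.card_pair hz1, hpc]
  rw [huniv, Finset.sum_pair hz1] at h1
  have h2 : Fintype.card (fixedBy Ω (1 : Subgroup.zpowers y)) = Nat.card Ω := by
    rw [← Nat.card_eq_fintype_card]
    have : fixedBy Ω (1 : Subgroup.zpowers y) = Set.univ := by
      ext a; simp [fixedBy]
    rw [this]
    exact Nat.card_congr (Equiv.Set.univ Ω)
  have h3 : Fintype.card (fixedBy Ω z) = Nat.card (fixedBy Ω y) := by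
    rw [← Nat.card_eq_fintype_card]
    rfl
  rw [h2, h3] at h1
  omega

section Reg

variable {G Ω : Type*} [Group G] [Finite G] [Finite Ω] [Nontrivial Ω] [MulAction G Ω] [FaithfulSMul G Ω]
  {N : Subgroup G} (R : Reg (Ω := Ω) N)
include R

omit [Finite G] in
theorem odd_N (hodd : Odd (Nat.card Ω)) {x : G} (hx : x ∈ N) (h : x * x = 1) : x = 1 := by
  have h1 : (⟨x, hx⟩ : N) ^ Nat.card N = 1 := pow_card_eq_one'
  have h2 : x ^ Nat.card N = 1 := congrArg Subtype.val h1
  rw [R.card] at h2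
  obtain ⟨k, hk⟩ := hodd
  rw [hk, pow_succ, pow_mul, pow_two, h, one_pow, one_mul] at h2
  exact h2

omit [Finite G] in
/-- an involution has a fixed point -/
theorem exists_fix (hodd : Odd (Nat.card Ω)) {y : G} (hy : y * y = 1) : ∃ a : Ω, y • a = a := by
  by_contra hcon
  push Not at hcon
  have hP : IsPGroup 2 (Subgroup.zpowers y) := by
    rintro ⟨_, i, rfl⟩
    refine ⟨1, Subtype.ext ?_⟩
    change (y ^ i) ^ (2 ^ 1) = 1
    rw [pow_one, ← zpow_natCast, ← zpow_mul, mul_comm, zpow_mul, zpow_natCast, pow_two, hy, one_zpow]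
  have h2 : ¬ 2 ∣ Nat.card Ω := fun h => (Nat.not_even_iff_odd.2 hodd) (even_iff_two_dvd.2 h)
  haveI : Fact (Nat.Prime 2) := ⟨Nat.prime_two⟩
  obtain ⟨a, ha⟩ := hP.nonempty_fixed_point_of_prime_not_dvd_card Ω h2
  exact hcon a (ha ⟨y, Subgroup.mem_zpowers y⟩)

omit [Finite Ω] [Nontrivial Ω] [Finite G] in
/-- an element which centralises `N` and fixes a point is trivial -/
theorem eq_one_of_cent {g : G} (hg : ∀ x ∈ N, g * x = x * g) {a : Ω} (ha : g • a = a) : g = 1 := by
  apply FaithfulSMul.eq_of_smul_eq_smul (α := Ω)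
  intro b
  obtain ⟨x, hx, rfl⟩ := R.trans a b
  rw [one_smul, ← mul_smul, hg x hx, mul_smul, ha]

omit [Finite G] in
theorem card_fix_eq {g : G} {a : Ω} (ha : g • a = a) :
    Nat.card (fixedBy Ω g) = Nat.card (N ⊓ Subgroup.centralizer ({g} : Set G) : Subgroup G) := by
  refine (Nat.card_congr (Equiv.ofBijective
    (fun x : (N ⊓ Subgroup.centralizer ({g} : Set G) : Subgroup G) =>
      (⟨(x : G) • a, ?_⟩ : fixedBy Ω g)) ⟨fun x y h => ?_, fun b => ?_⟩)).symm
  · rw [mem_fixedBy, ← mul_smul]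
    have := Subgroup.mem_centralizer_singleton_iff.1 x.2.2
    rw [← this, mul_smul, ha]
  · exact Subtype.ext (R.inj x.2.1 y.2.1 (congrArg Subtype.val h))
  · obtain ⟨x, hx, h⟩ := R.trans a b
    refine ⟨⟨x, hx, Subgroup.mem_centralizer_singleton_iff.2 ?_⟩, Subtype.ext h⟩
    exact (R.comm_of_fix hx ha (by rw [h]; exact b.2)).symm

omit [Finite G] [Finite Ω] [Nontrivial Ω] in
/-- the elements of `N` inverted by `y` -/
def invSub (y : G) : Subgroup G where
  carrier := {x | x ∈ N ∧ y * x * y⁻¹ = x⁻¹}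
  mul_mem' := by
    rintro a b ⟨ha, ha'⟩ ⟨hb, hb'⟩
    refine ⟨N.mul_mem ha hb, ?_⟩
    have : y * (a * b) * y⁻¹ = (y * a * y⁻¹) * (y * b * y⁻¹) := by group
    rw [this, ha', hb', mul_inv_rev]
    exact R.comm _ (N.inv_mem ha) _ (N.inv_mem hb)
  one_mem' := ⟨N.one_mem, by group⟩
  inv_mem' := by
    rintro a ⟨ha, ha'⟩
    refine ⟨N.inv_mem ha, ?_⟩
    have : y * a⁻¹ * y⁻¹ = (y * a * y⁻¹)⁻¹ := by group
    rw [this, ha']

omit [Finite G] [Finite Ω] [Nontrivial Ω] in
theorem mem_invSub {y x : G} : x ∈ invSub R y ↔ x ∈ N ∧ y * x * y⁻¹ = x⁻¹ := Iff.rfl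

omit [Finite G] [Finite Ω] [Nontrivial Ω] in
/-- `x (y x y⁻¹)⁻¹` is inverted by the involution `y` -/
theorem comm_mem_invSub {y x : G} (hy : y * y = 1) (hx : x ∈ N) : x * (y * x * y⁻¹)⁻¹ ∈ invSub R y := by
  have h1 : y * x * y⁻¹ ∈ N := R.normal.conj_mem x hx y
  refine ⟨N.mul_mem hx (N.inv_mem h1), ?_⟩
  have h2 : y⁻¹ = y := inv_eq_of_mul_eq_one_right hy
  have h3 : y * (x * (y * x * y⁻¹)⁻¹) * y⁻¹ = (y * x * y⁻¹) * (y * y) * x⁻¹ * (y * y)⁻¹ := by group
  rw [h3, hy, mul_one, inv_one, mul_one, mul_inv_rev, inv_inv]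

theorem card_inv_mul (hodd : Odd (Nat.card Ω)) {y : G} (hy : y * y = 1) :
    Nat.card (fixedBy Ω y) * Nat.card (invSub R y) ≤ Nat.card Ω := by
  obtain ⟨a, ha⟩ := exists_fix R hodd hy
  rw [card_fix_eq R ha, ← R.card, ← Nat.card_prod]
  refine Nat.card_le_card_of_injective (fun p : (N ⊓ Subgroup.centralizer ({y} : Set G) : Subgroup G) × invSub R y =>
    (⟨(p.1 : G) * (p.2 : G), N.mul_mem p.1.2.1 p.2.2.1⟩ : N)) ?_
  rintro ⟨⟨c, hc⟩, ⟨d, hd⟩⟩ ⟨⟨c', hc'⟩, ⟨d', hd'⟩⟩ h
  have h1 : c * d = c' * d' := congrArg Subtype.val h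
  have h2 : c'⁻¹ * c = d' * d⁻¹ := by
    calc c'⁻¹ * c = c'⁻¹ * (c * d) * d⁻¹ := by group
      _ = d' * d⁻¹ := by rw [h1]; group
  have h3 : c'⁻¹ * c ∈ (N ⊓ Subgroup.centralizer ({y} : Set G) : Subgroup G) :=
    Subgroup.mul_mem _ (Subgroup.inv_mem _ hc') hc
  have h4 : c'⁻¹ * c ∈ invSub R y := by rw [h2]; exact Subgroup.mul_mem _ hd' (Subgroup.inv_mem _ hd)
  set z := c'⁻¹ * c with hz
  have h5 : y * z * y⁻¹ = z := by
    have := Subgroup.mem_centralizer_singleton_iff.1 h3.2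
    rw [← this]; group
  have h6 : z * z = 1 := by
    have h7 := h4.2
    rw [h5] at h7
    nth_rewrite 1 [h7]
    exact inv_mul_cancel z
  have h7 : z = 1 := odd_N R hodd h4.1 h6
  have h8 : c' = c := inv_mul_eq_one.1 (by rw [← hz]; exact h7)
  have h9 : d' = d := by
    rw [h7] at h2
    exact (mul_inv_eq_one.1 h2.symm)
  subst h8 h9
  rfl

/-- the involutions inverting exactly `⟨v⟩` -/
theorem fiber_le (hodd : Odd (Nat.card Ω)) {s : ℕ} (hq : ∀ p : ℕ, p.Prime → p ∣ Nat.card Ω → s ≤ p) {v : G}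
    (hv : v ∈ N) (hvs : orderOf v = s) (Y : Finset G) (hY : ∀ y ∈ Y, y * y = 1 ∧ y * v * y⁻¹ = v⁻¹)
    (hY2 : ∀ y ∈ Y, invSub R y ≤ Subgroup.zpowers v) : Y.card ≤ Nat.card Ω := by
  classical
  obtain ⟨δ, -⟩ := exists_pair_ne Ω
  obtain ⟨S, hS, hSc⟩ := exists_gen_over (Subgroup.zpowers (⟨v, hv⟩ : N)) s (by rw [R.card]; exact hq)
  have hc : ∀ y : Y, ∃ c : Subgroup.zpowers v, (y : G) • δ = (c : G) • δ := by
    rintro ⟨y, hy⟩
    obtain ⟨hyy, -⟩ := hY y hy
    obtain ⟨a, ha⟩ := exists_fix R hodd hyy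
    obtain ⟨x, hx, rfl⟩ := R.trans δ a
    have h1 := comm_mem_invSub R hyy hx
    refine ⟨⟨x * (y * x * y⁻¹)⁻¹, hY2 y hy h1⟩, ?_⟩
    have h2 : y * x * y⁻¹ ∈ N := R.normal.conj_mem x hx y
    have h3 : x * (y * x * y⁻¹)⁻¹ = (y * x * y⁻¹)⁻¹ * x := R.comm _ hx _ (N.inv_mem h2)
    change y • δ = (x * (y * x * y⁻¹)⁻¹) • δ
    rw [h3, mul_smul, eq_inv_smul_iff, ← mul_smul, inv_mul_cancel_right, mul_smul, ha]
  choose c hc using hc
  let f : Y → (S → Subgroup.zpowers v) × Subgroup.zpowers v := fun y =>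
    (fun w => ⟨((w : N) : G) * ((y : G) * ((w : N) : G) * (y : G)⁻¹)⁻¹,
      hY2 y y.2 (comm_mem_invSub R (hY y y.2).1 (w : N).2)⟩, c y)
  have hf : Function.Injective f := by
    intro y y' h
    have h1 : ∀ w : S, (y : G) * ((w : N) : G) * (y : G)⁻¹ = (y' : G) * ((w : N) : G) * (y' : G)⁻¹ := by
      intro w
      have h2 := congrArg (fun p => ((p.1 w : Subgroup.zpowers v) : G)) h
      have h3 : ((w : N) : G) * ((y : G) * ((w : N) : G) * (y : G)⁻¹)⁻¹ =
        ((w : N) : G) * ((y' : G) * ((w : N) : G) * (y' : G)⁻¹)⁻¹ := h2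
      exact inv_injective (mul_left_cancel h3)
    have h2 : c y = c y' := congrArg Prod.snd h
    have hz : ∀ w : G, (y : G) * w * (y : G)⁻¹ = (y' : G) * w * (y' : G)⁻¹ →
        ((y' : G)⁻¹ * y) * w = w * ((y' : G)⁻¹ * y) := by
      intro w hw
      calc ((y' : G)⁻¹ * y) * w = (y' : G)⁻¹ * ((y : G) * w * (y : G)⁻¹) * y := by group
        _ = w * ((y' : G)⁻¹ * y) := by rw [hw]; group
    have hcen : ∀ x ∈ N, ((y' : G)⁻¹ * y) * x = x * ((y' : G)⁻¹ * y) := by
      have hle : (⊤ : Subgroup N) ≤ (Subgroup.centralizer ({(y' : G)⁻¹ * y} : Set G)).subgroupOf N := by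
        rw [← hS, sup_le_iff, Subgroup.closure_le, Subgroup.zpowers_le]
        constructor
        · rw [Subgroup.mem_subgroupOf, Subgroup.mem_centralizer_singleton_iff]
          exact (hz v (by rw [(hY y y.2).2, (hY y' y'.2).2])).symm
        · intro w hw
          rw [SetLike.mem_coe, Subgroup.mem_subgroupOf, Subgroup.mem_centralizer_singleton_iff]
          exact (hz _ (h1 ⟨w, hw⟩)).symm
      intro x hx
      have h3 := hle (Subgroup.mem_top (⟨x, hx⟩ : N))
      rw [Subgroup.mem_subgroupOf, Subgroup.mem_centralizer_singleton_iff] at h3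
      exact h3.symm
    have h3 : (y' : G)⁻¹ * y = 1 := by
      refine eq_one_of_cent R hcen (a := δ) ?_
      rw [mul_smul, inv_smul_eq_iff, hc y, hc y', h2]
    exact Subtype.ext (inv_mul_eq_one.1 h3).symm
  have h1 := Nat.card_le_card_of_injective f hf
  rw [Nat.card_prod, Nat.card_fun, Nat.card_zpowers, hvs, Nat.card_eq_fintype_card (α := Y), Fintype.card_coe,
    Nat.card_eq_fintype_card (α := S), Fintype.card_coe] at h1
  rw [Nat.card_zpowers, Subgroup.orderOf_mk, hvs, R.card] at hSc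
  exact h1.trans hSc

/-- **the number of reflections** -/
theorem card_class1 (hodd : Odd (Nat.card Ω)) {s : ℕ} (hs : s.Prime)
    (hq : ∀ p : ℕ, p.Prime → p ∣ Nat.card Ω → s ≤ p) (hsx : ∀ x ∈ N, x ^ s = 1) :
    Nat.card {y : G // y ≠ 1 ∧ y * y = 1 ∧ Nat.card (fixedBy Ω y) * s = Nat.card Ω} * (s - 1) ≤
      (Nat.card Ω - 1) * Nat.card Ω := by
  classical
  have := Fintype.ofFinite G
  set A : Finset G := Finset.univ.filter fun y => y ≠ 1 ∧ y * y = 1 ∧ Nat.card (fixedBy Ω y) * s = Nat.card Ω with hA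
  set B : Finset G := Finset.univ.filter fun x => x ∈ N ∧ x ≠ 1 with hB
  have hAc : Nat.card {y : G // y ≠ 1 ∧ y * y = 1 ∧ Nat.card (fixedBy Ω y) * s = Nat.card Ω} = A.card := by
    rw [Nat.card_eq_fintype_card, Fintype.card_subtype]
  have hBc : B.card = Nat.card Ω - 1 := by
    have h1 : (Finset.univ.filter fun x : G => x ∈ N).card = Nat.card Ω := by
      rw [← R.card, Nat.card_eq_fintype_card, Fintype.card_subtype]
    have h2 : B = (Finset.univ.filter fun x : G => x ∈ N).erase 1 := by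
      ext x
      simp only [hB, Finset.mem_filter, Finset.mem_univ, true_and, Finset.mem_erase]
      tauto
    rw [h2, Finset.card_erase_of_mem (by simp [N.one_mem]), h1]
  rw [hAc, ← hBc]
  have hD : ∀ y ∈ A, Nat.card (invSub R y) = s := by
    intro y hy
    rw [hA, Finset.mem_filter] at hy
    obtain ⟨-, hy1, hyy, hyf⟩ := hy
    have h1 := card_inv_mul R hodd hyy
    rw [← hyf] at h1
    have h0 : 0 < Nat.card (fixedBy Ω y) := by
      obtain ⟨a, ha⟩ := exists_fix R hodd hyy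
      haveI : Nonempty (fixedBy Ω y) := ⟨⟨a, ha⟩⟩
      exact Nat.card_pos
    have h2 : Nat.card (invSub R y) ≤ s := Nat.le_of_mul_le_mul_left h1 h0
    obtain ⟨w, hw, hw1⟩ : ∃ w ∈ invSub R y, w ≠ 1 := by
      by_contra hcon
      push Not at hcon
      apply hy1
      obtain ⟨a, ha⟩ := exists_fix R hodd hyy
      refine eq_one_of_cent R (fun x hx => ?_) ha
      have h3 := hcon _ (comm_mem_invSub R hyy hx)
      have h4 : x = y * x * y⁻¹ := mul_inv_eq_one.1 h3
      calc y * x = y * x * y⁻¹ * y := by group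
        _ = x * y := by rw [← h4]
    have h3 : Subgroup.zpowers w ≤ invSub R y := by rwa [Subgroup.zpowers_le]
    have h4 := Subgroup.card_le_of_le h3
    haveI : Fact s.Prime := ⟨hs⟩
    rw [Nat.card_zpowers, orderOf_eq_prime (hsx w hw.1) hw1] at h4
    exact le_antisymm h2 h4
  refine Finset.card_mul_le_card_mul (fun y v => v ∈ invSub R y) (fun y hy => ?_) (fun v hv => ?_)
  · have h1 : (Finset.univ.filter fun x : G => x ∈ invSub R y).card = s := by
      rw [← hD y hy, Nat.card_eq_fintype_card, Fintype.card_subtype]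
    have h2 : B.bipartiteAbove (fun y v => v ∈ invSub R y) y =
        (Finset.univ.filter fun x : G => x ∈ invSub R y).erase 1 := by
      ext x
      simp only [hB, Finset.bipartiteAbove, Finset.mem_filter, Finset.mem_univ, true_and, Finset.mem_erase]
      constructor
      · rintro ⟨⟨-, h⟩, h'⟩
        exact ⟨h, h'⟩
      · rintro ⟨h, h'⟩
        exact ⟨⟨h'.1, h⟩, h'⟩
    rw [h2, Finset.card_erase_of_mem (by simp [Subgroup.one_mem]), h1]
  · rw [hB, Finset.mem_filter] at hv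
    obtain ⟨-, hvN, hv1⟩ := hv
    haveI : Fact s.Prime := ⟨hs⟩
    have hvs : orderOf v = s := orderOf_eq_prime (hsx v hvN) hv1
    apply fiber_le R hodd hq hvN hvs
    · intro y hy
      rw [Finset.bipartiteBelow, Finset.mem_filter] at hy
      have h1 := hy.1
      rw [hA, Finset.mem_filter] at h1
      exact ⟨h1.2.2.1, hy.2.2⟩
    · intro y hy
      rw [Finset.bipartiteBelow, Finset.mem_filter] at hy
      have h1 : Subgroup.zpowers v ≤ invSub R y := by rw [Subgroup.zpowers_le]; exact hy.2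
      have h2 : Subgroup.zpowers v = invSub R y := by
        apply Subgroup.eq_of_le_of_card_ge h1
        rw [hD y hy.1, Nat.card_zpowers, hvs]
      exact h2.ge

/-- involutions with exactly one fixed point -/
theorem card_class2 (hodd : Odd (Nat.card Ω)) :
    Nat.card {y : G // y ≠ 1 ∧ y * y = 1 ∧ Nat.card (fixedBy Ω y) = 1} ≤ Nat.card Ω := by
  classical
  have hex : ∀ y : {y : G // y ≠ 1 ∧ y * y = 1 ∧ Nat.card (fixedBy Ω y) = 1}, ∃ a : Ω, (y : G) • a = a :=
    fun y => exists_fix R hodd y.2.2.1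
  choose f hf using hex
  refine Nat.card_le_card_of_injective f ?_
  have hinv : ∀ y : {y : G // y ≠ 1 ∧ y * y = 1 ∧ Nat.card (fixedBy Ω y) = 1}, ∀ x ∈ N,
      (y : G) * x * (y : G)⁻¹ = x⁻¹ := by
    rintro ⟨y, hy1, hyy, hyf⟩ x hx
    obtain ⟨a, ha⟩ := exists_fix R hodd hyy
    rw [card_fix_eq R ha, Subgroup.card_eq_one] at hyf
    -- the map `x ↦ x (y x y⁻¹)⁻¹` is injective
    have hinj : Function.Injective (fun x : N => (⟨(x : G) * (y * x * y⁻¹)⁻¹,
        (comm_mem_invSub R hyy x.2).1⟩ : N)) := by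
      rintro ⟨u, hu⟩ ⟨w, hw⟩ h
      have h1 : u * (y * u * y⁻¹)⁻¹ = w * (y * w * y⁻¹)⁻¹ := congrArg Subtype.val h
      have hyu : y * u * y⁻¹ ∈ N := R.normal.conj_mem u hu y
      have hyw : y * w * y⁻¹ ∈ N := R.normal.conj_mem w hw y
      have h2 : w⁻¹ * u = (y * w * y⁻¹)⁻¹ * (y * u * y⁻¹) := by
        calc w⁻¹ * u = w⁻¹ * (u * (y * u * y⁻¹)⁻¹) * (y * u * y⁻¹) := by group
          _ = (y * w * y⁻¹)⁻¹ * (y * u * y⁻¹) := by rw [h1]; group
      have h3 : w⁻¹ * u ∈ (N ⊓ Subgroup.centralizer ({y} : Set G) : Subgroup G) := by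
        refine ⟨N.mul_mem (N.inv_mem hw) hu, Subgroup.mem_centralizer_singleton_iff.2 ?_⟩
        calc w⁻¹ * u * y = (y * w * y⁻¹)⁻¹ * (y * u * y⁻¹) * y := by rw [h2]
          _ = y * (w⁻¹ * u) := by group
      rw [hyf, Subgroup.mem_bot] at h3
      exact Subtype.ext (inv_mul_eq_one.1 h3).symm
    have hsurj := Finite.surjective_of_injective hinj
    obtain ⟨⟨u, hu⟩, hux⟩ := hsurj ⟨x, hx⟩
    have h4 : u * (y * u * y⁻¹)⁻¹ = x := congrArg Subtype.val hux
    rw [← h4]
    exact (comm_mem_invSub R hyy hu).2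
  intro y y' h
  have h3 : (y' : G)⁻¹ * y = 1 := by
    refine eq_one_of_cent R (fun x hx => ?_) (a := f y) ?_
    · calc (y' : G)⁻¹ * y * x = (y' : G)⁻¹ * (y * x * (y : G)⁻¹) * y := by group
        _ = (y' : G)⁻¹ * ((y' : G) * x * (y' : G)⁻¹) * y := by rw [hinv y x hx, hinv y' x hx]
        _ = x * ((y' : G)⁻¹ * y) := by group
    · rw [mul_smul, hf y, inv_smul_eq_iff]
      rw [h]
      exact (hf y').symm
  exact Subtype.ext (inv_mul_eq_one.1 h3).symm

/-- the order of the group -/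
theorem card_G_le (q : ℕ) (hq : ∀ p : ℕ, p.Prime → p ∣ Nat.card Ω → q ≤ p) :
    ∃ k : ℕ, q ^ k ≤ Nat.card Ω ∧ Nat.card G ≤ Nat.card Ω ^ (k + 1) := by
  obtain ⟨B, k, -, hBk, hk, hB⟩ := R.exists_base q hq
  refine ⟨k, hk, ?_⟩
  have h1 : Nat.card G ≤ Nat.card (B → Ω) := by
    refine Nat.card_le_card_of_injective (fun g : G => fun b : B => g • (b : Ω)) ?_
    intro g h hgh
    have h2 : h⁻¹ * g = 1 := hB _ fun b hb => by
      have := congrFun hgh ⟨b, hb⟩
      rw [mul_smul, inv_smul_eq_iff]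
      exact this
    exact (inv_mul_eq_one.1 h2).symm
  rw [Nat.card_fun, Nat.card_eq_fintype_card (α := B), Fintype.card_coe] at h1
  exact h1.trans (Nat.pow_le_pow_right Nat.card_pos hBk)

end Reg

end Cfsg.Agent.H659.RC
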